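import Cfsg.Agent.Lib.B3L.Def
import Cfsg.Agent.Lib.F3L.Ba8

/-! The Sylow 3-subgroup of `C(z) / Q` in the 3-local configuration of the Baby Monster. -/

set_option autoImplicit false

namespace H7.B3

open Subgroup Cfsg H7.F3 H7.F3.Ba
open H87.U6 (F3 cm_cj)

variable {G : Type*} [Group G] [Finite G]

theorem card_sylB {z t : G} {l : V8 → G} (h : B8 z l t) : Nat.card (syl h.toA0) = 3 ^ 13 := by
  obtain ⟨f, a, -, e⟩ := hom h.toA0 (T := syl h.toA0) fun _ hx => hx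
  have t1 : f.range = ⊤ := eq_top_iff.2 fun q _ => by
    obtain ⟨A, n⟩ := nm_wf q
    obtain ⟨g, b⟩ := h.all _ A n
    exact ⟨⟨g, q, b⟩, wf_inj (h.ac_uniq (a ⟨g, q, b⟩) b)⟩
  have t2 : Qs z l ≤ syl h.toA0 := fun x hx => ⟨1, (h.ac_Q hx).congr fun v => (wf_one v).symm⟩
  rw [e, t1, card_top, card_W3, inf_eq_right.2 t2, h.cardQ, card_V8]
  rfl

omit [Finite G] in
theorem B8.map {z t : G} {l : V8 → G} (h : B8 z l t) {G' : Type*} [Group G'] (f : G ≃* G') :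
    B8 (f z) (fun v => f (l v)) (f t) where
  toA0 := h.toA0.map f
  img g hg := by
    obtain ⟨g, rfl⟩ := f.surjective g
    obtain ⟨φ, A, n, a⟩ := h.img g (f.injective (by simpa using hg))
    exact ⟨φ, A, n, (ac_map f).2 a⟩
  all φ A n := let ⟨g, a⟩ := h.all φ A n; ⟨f g, (ac_map f).2 a⟩
  sq φ A n := let ⟨g, a⟩ := h.sq φ A n; ⟨f g, (ac_map f).2 a⟩
  cM := by
    rw [← h.cM, ← card_map_of_injective (f := f.toMonoidHom) f.injective]
    congr 2
    ext g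
    obtain ⟨g, rfl⟩ := f.surjective g
    refine Iff.trans ?_ (mem_map_iff_mem (f := f.toMonoidHom) f.injective).symm
    simp only [mem_centralizer_singleton_iff, ← map_mul, f.injective.eq_iff]

theorem adaptW {z t : G} {l : V8 → G} (h : B8 z l t) {T : Subgroup G} (p : IsPGroup 3 T)
    (c : ∀ x ∈ T, x * z = z * x) : ∃ l' t', B8 z l' t' ∧ Qs z l' = Qs z l ∧ ∀ x ∈ T, ∃ q, Ac z l' x (wf q) := by
  have : Fact (Nat.Prime 3) := ⟨Nat.prime_three⟩
  have le : syl h.toA0 ≤ centralizer {z} := fun x ⟨_, a⟩ => mem_centralizer_singleton_iff.2 a.1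
  have s := H69.isSylowIn_of_not_dvd_relIndex (IsPGroup.of_card (card_sylB h)) le (by
    have := card_mul_index ((syl h.toA0).subgroupOf (centralizer {z}))
    rw [Nat.card_congr (subgroupOfEquivOfLe le).toEquiv, card_sylB h, h.cM] at this
    rw [relIndex, Nat.eq_of_mul_eq_mul_left (by norm_num) this]
    norm_num)
  obtain ⟨g, gz, e⟩ := s.exists_cj_le p fun x hx => mem_centralizer_singleton_iff.2 (c x hx)
  rw [mem_centralizer_singleton_iff] at gz
  have gz' := (show Commute g z from gz).inv_left.eq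
  have F := h.map (MulAut.conj g⁻¹)
  have ez : MulAut.conj g⁻¹ z = z := cm_cj.1 gz'
  have eQ : Qs z (fun v => MulAut.conj g⁻¹ (l v)) = Qs z l := by
    ext x
    obtain ⟨x, rfl⟩ := (MulAut.conj g⁻¹).surjective x
    conv_lhs => rw [← ez]
    rw [ez, ← ez, mem_Qs_map, ez]
    exact ⟨h.nQ' gz', fun hx => by simpa [mul_assoc] using h.nQ' gz hx⟩
  rw [ez] at F
  refine ⟨_, _, F, eQ, fun x hx => ?_⟩
  obtain ⟨q, a⟩ := e (mem_map_of_mem _ hx)
  have := (ac_map (MulAut.conj g⁻¹)).2 a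
  rw [ez] at this
  exact ⟨q, by simpa [mul_assoc] using this⟩

theorem B8.adapt {z t : G} {l : V8 → G} (h : B8 z l t) {T : Subgroup G} (p : IsPGroup 3 T)
    (c : ∀ x ∈ T, x * z = z * x) : ∃ l' t', B8 z l' t' ∧ Qs z l' = Qs z l ∧
      ∀ x ∈ T, ∃ c, ∃ m < 3, Ac z l' x fun v => tau c (sig^[m] v) := by
  obtain ⟨l', t', F, e, a⟩ := adaptW h p c
  exact ⟨l', t', F, e, fun x hx => let ⟨q, b⟩ := a x hx; ⟨q.1, q.2.val, q.2.isLt, b⟩⟩

theorem B8.idx27 {z t : G} {l : V8 → G} (h : B8 z l t) {T : Subgroup G} (p : ∀ x ∈ T, x ^ 3 = 1)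
    (c : ∀ x ∈ T, x * z = z * x) : Nat.card T ≤ 27 * Nat.card (T ⊓ Qs z l : Subgroup G) := by
  obtain ⟨l', t', F, e, a⟩ := adaptW h (pg3 p) c
  obtain ⟨f, -, -, k⟩ := hom F.toA0 a
  rw [k, e]
  refine Nat.mul_le_mul_right _ ?_
  have d := card_subgroup_dvd_card f.range
  rw [card_W3, show 81 = 3 ^ 4 from rfl, Nat.dvd_prime_pow Nat.prime_three] at d
  obtain ⟨n, hn, e⟩ := d
  have : n ≠ 4 := by
    rintro rfl
    obtain ⟨q, hq⟩ := ord9
    obtain ⟨x, rfl⟩ : q ∈ f.range := eq_top_of_card_eq _ (e.trans card_W3.symm) ▸ mem_top q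
    rw [← pow_three', ← map_pow, show x ^ 3 = 1 from Subtype.ext (p x x.2), map_one] at hq
    exact hq rfl
  rw [e]
  exact Nat.pow_le_pow_right (by norm_num) (show n ≤ 3 by omega)

theorem B8.torus {z t : G} {l : V8 → G} (h : B8 z l t) {T : Subgroup G} (p : ∀ x ∈ T, x ^ 3 = 1)
    (c : ∀ x ∈ T, x * z = z * x) (ab : ∀ x ∈ T, ∀ y ∈ T, x * y * x⁻¹ * y⁻¹ ∈ Qs z l)
    (big : 27 * Nat.card (T ⊓ Qs z l : Subgroup G) ≤ Nat.card T) :
    ∃ l' t', B8 z l' t' ∧ Qs z l' = Qs z l ∧ (∀ x ∈ T, ∃ c, Ac z l' x (tau c)) ∧ ∀ c, ∃ x ∈ T, Ac z l' x (tau c) := by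
  obtain ⟨l', t', F, e, a⟩ := adaptW h (pg3 p) c
  obtain ⟨f, a, k, s⟩ := hom F.toA0 a
  rw [s, e] at big
  replace big := Nat.le_of_mul_le_mul_right big Nat.card_pos
  have cm : ∀ x y : T, f x * f y = f y * f x := fun x y => by
    have := (k (x * y * x⁻¹ * y⁻¹)).2 (e ▸ ab x x.2 y y.2)
    rwa [map_mul, map_mul, map_mul, map_inv, map_inv, mul_inv_eq_one, mul_inv_eq_iff_eq_mul] at this
  have z0 : ∀ x, (f x).2 = 0 := fun x => by
    by_contra n
    have := Nat.card_le_card_of_injective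
      (fun q : f.range => (⟨q, by obtain ⟨_, y, rfl⟩ := q; simpa using cm y x⟩ :
        (Finset.univ.filter fun r => r * f x = f x * r))) fun q r e => Subtype.ext (congrArg (·.1) e)
    rw [Nat.card_eq_finsetCard] at this
    have := cent9 _ n
    omega
  have a' : ∀ x : T, Ac z l' x (tau (f x).1) := fun x => (a x).congr fun v => by rw [wf, z0]; rfl
  refine ⟨l', t', F, e, fun x hx => ⟨_, a' ⟨x, hx⟩⟩, fun c => ?_⟩
  have inj : Function.Injective fun q : f.range => q.1.1 := by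
    rintro ⟨_, x, rfl⟩ ⟨_, y, rfl⟩ e
    exact Subtype.ext (Prod.ext e ((z0 x).trans (z0 y).symm))
  obtain ⟨⟨_, x, rfl⟩, rfl⟩ := (inj.bijective_of_nat_card_le (by simpa using big)).2 c
  exact ⟨x, x.2, a' x⟩

end H7.B3
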