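import Cfsg.Agent.Lib.F3L.Gam

/-! The 3-local configuration of the Baby Monster: definitions. -/

set_option autoImplicit false

namespace H7.B3

open Subgroup Cfsg H7.F3 H7.F3.Gam
open H87.U6 (F3 f3_cases)

/-- `φ` normalizes the extraspecial group and induces `A` on it -/
structure Nb (φ : V8 → V8) (A : W6 → W6) : Prop where
  add : ∀ u v, φ (u + v) = φ u + φ v
  inj : Function.Injective φ
  nm : ∀ x, (∀ v, φ (pa x v) = pa (A x) (φ v)) ∨ ∀ v, φ (pa x v) = -pa (A x) (φ v)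

/-- the centralizer of `sw` -/
def Cb (φ : V8 → V8) : Prop := (∃ A, Nb φ A) ∧ ∀ v, φ (sw v) = sw (φ v)

variable {G : Type*} [Group G]

/-- `C(z) / Q` is the subgroup of index two in the normalizer of the extraspecial group -/
structure B8 (z : G) (l : V8 → G) (t : G) : Prop extends A0 b8 z l t where
  img : ∀ g, g * z = z * g → ∃ φ A, Nb φ A ∧ Ac z l g φ
  all : ∀ φ A, Nm φ A → ∃ g, Ac z l g φ
  sq : ∀ φ A, Nb φ A → ∃ g, Ac z l g fun v => φ (φ v)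
  cM : Nat.card (centralizer ({z} : Set G)) = 3 ^ 13 * 40960

/-- the configuration before coordinates on `Q` are chosen -/
structure PB (z : G) (Q : Subgroup G) (t : G) (i j : Fin 3 → G) : Prop where
  z3 : z ^ 3 = 1
  z1 : z ≠ 1
  zQ : z ∈ Q
  cQ : Nat.card Q = 3 ^ 9
  Q3 : ∀ x ∈ Q, x ^ 3 = 1
  Qz : ∀ x ∈ Q, x * z = z * x
  Qc : ∀ x ∈ Q, ∀ y ∈ Q, x * y * x⁻¹ * y⁻¹ ∈ zpowers z
  nQ : ∀ g, g * z = z * g → ∀ x ∈ Q, g * x * g⁻¹ ∈ Q
  CQ : ∀ g, g * z = z * g → (∀ x ∈ Q, g * x = x * g) → g ∈ zpowers z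
  t2 : t * t = 1
  t1 : t ≠ 1
  iz : ∀ k, i k * z = z * i k
  jz : ∀ k, j k * z = z * j k
  i2 : ∀ k, i k * i k = t
  j2 : ∀ k, j k * j k = t
  ij : ∀ k, i k * j k = j k * i k * t
  cm : ∀ k k', k ≠ k' → i k * i k' = i k' * i k ∧ i k * j k' = j k' * i k ∧ j k * j k' = j k' * j k
  nrm : ∀ g, g * z = z * g → ∃ n ∈ Q, ∃ A : W6 → W6,
    ∀ x, n * g * pw i j x * (n * g)⁻¹ = pw i j (A x) ∨ n * g * pw i j x * (n * g)⁻¹ = pw i j (A x) * t
  all : ∀ A : W6 → W6, (∀ x y, A (x + y) = A x + A y) → (∀ x, A (om6 x) = om6 (A x)) → (∀ x, q6 (A x) = q6 x) →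
    ∃ g, g * z = z * g ∧ ∀ x, g * pw i j x * g⁻¹ = pw i j (A x) ∨ g * pw i j x * g⁻¹ = pw i j (A x) * t
  sq : ∀ A : W6 → W6, (∀ x y, A (x + y) = A x + A y) → (∀ x, q6 (A x) = q6 x) →
    ∃ g, g * z = z * g ∧ ∀ x, g * pw i j x * g⁻¹ = pw i j (A (A x)) ∨ g * pw i j x * g⁻¹ = pw i j (A (A x)) * t
  cM : Nat.card (centralizer ({z} : Set G)) = 3 ^ 13 * 40960

theorem eqns_defb : True := by
  have := @Cb.eq_1
  trivial

theorem nb {φ : V8 → V8} {A : W6 → W6} (h : Nm φ A) : Nb φ A := ⟨h.add, h.inj, h.nm⟩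

theorem cb {φ : V8 → V8} (h : Cs φ) : Cb φ := let ⟨⟨A, n⟩, c⟩ := h; ⟨⟨A, nb n⟩, c⟩

theorem Nb.sgn3 {φ : V8 → V8} {A : W6 → W6} (h : Nb φ A) (x : W6) : ∃ a, ∀ v, φ (pa x v) = sn a • pa (A x) (φ v) :=
  sg_iff.1 (h.nm x)

theorem Nb.smul3 {φ : V8 → V8} {A : W6 → W6} (h : Nb φ A) (c : F3) (v : V8) : φ (c • v) = c • φ v := add_smul3 h.add c v
theorem Nb.neg3 {φ : V8 → V8} {A : W6 → W6} (h : Nb φ A) (v : V8) : φ (-v) = -φ v := add_neg' h.add v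
theorem Nb.surj3 {φ : V8 → V8} {A : W6 → W6} (h : Nb φ A) (v : V8) : ∃ u, φ u = v :=
  Finite.injective_iff_surjective.1 h.inj v

theorem Nb.mul {φ ψ : V8 → V8} {A B : W6 → W6} (h : Nb φ A) (h' : Nb ψ B) :
    Nb (fun v => φ (ψ v)) fun x => A (B x) where
  add u v := by rw [h'.add, h.add]
  inj := h.inj.comp h'.inj
  nm x := by
    obtain ⟨a, e⟩ := h'.sgn3 x
    obtain ⟨b, e'⟩ := h.sgn3 (B x)
    exact sg_iff.2 ⟨a + b, fun v => by rw [e, h.smul3, e', smul_smul, sn_add]⟩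

theorem Nb.cancel3 {φ : V8 → V8} {A : W6 → W6} (h : Nb φ A) {x y : W6} {a : ZMod 2}
    (e : ∀ v, pa x (φ v) = sn a • pa y (φ v)) : x = y ∧ a = 0 :=
  pa_eq fun v => by obtain ⟨u, rfl⟩ := h.surj3 v; exact e u

theorem Nb.A_add {φ : V8 → V8} {A : W6 → W6} (h : Nb φ A) (x y : W6) : A (x + y) = A x + A y := by
  obtain ⟨a, ea⟩ := h.sgn3 x
  obtain ⟨b, eb⟩ := h.sgn3 y
  obtain ⟨c, ec⟩ := h.sgn3 (x + y)
  refine (h.cancel3 (a := c + c6 x y + a + b + c6 (A x) (A y)) fun v => ?_).1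
  have := congrArg φ (pa_mul x y v)
  rw [h.smul3, ea, eb, ec, pa_smul, pa_mul] at this
  rw [sn_add, sn_add, sn_add, sn_add, mul_smul, mul_smul, mul_smul, mul_smul, this, smul_smul (sn (c6 x y)), sn_sq,
    one_smul, smul_smul, sn_sq, one_smul]

theorem Nb.A_q6 {φ : V8 → V8} {A : W6 → W6} (h : Nb φ A) (x : W6) : q6 (A x) = q6 x := by
  obtain ⟨a, ea⟩ := h.sgn3 x
  obtain ⟨u, e⟩ := h.surj3 e0
  have := congrArg φ (pa_pa x u)
  rw [h.smul3, ea, ea, pa_smul, pa_pa, smul_smul, sn_sq, one_smul, e] at this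
  exact sn_inj _ _ this

/-- two maps inducing the same `A` differ by an element of the extraspecial group -/
theorem Nb.div3 {φ ψ : V8 → V8} {A : W6 → W6} (h : Nb φ A) (h' : Nb ψ A) :
    ∃ x, (∀ v, φ v = ψ (pa x v)) ∨ ∀ v, φ v = ψ (-pa x v) := by
  choose s hs using h'.surj3
  obtain ⟨x, e⟩ := Nm.eq_pa (φ := fun v => s (φ v)) ⟨fun u v => h'.inj (by rw [h'.add, hs, hs, hs, h.add]),
    fun u v e => h.inj (by rw [← hs (φ u), ← hs (φ v)]; exact congrArg ψ e), fun x => by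
      obtain ⟨a, ea⟩ := h.sgn3 x
      obtain ⟨b, eb⟩ := h'.sgn3 x
      exact sg_iff.2 ⟨a + b, fun v => h'.inj (by
        rw [hs, h'.smul3, id, eb, hs, ea, smul_smul, sn_add, mul_assoc, sn_sq, mul_one])⟩, fun _ => rfl⟩
  exact ⟨x, e.imp (fun e v => by rw [← e, hs]) fun e v => by rw [← e, hs]⟩

theorem Nb.uniq {φ : V8 → V8} {A B : W6 → W6} (h : Nb φ A) (h' : Nb φ B) (x : W6) : A x = B x := by
  obtain ⟨a, ea⟩ := h.sgn3 x
  obtain ⟨b, eb⟩ := h'.sgn3 x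
  exact (h.cancel3 (a := a + b) fun v => by rw [sn_add, mul_smul, ← eb, ea, smul_smul, sn_sq, one_smul]).1

theorem Nb.s6 {φ : V8 → V8} {A : W6 → W6} (h : Nb φ A) (c : ∀ v, φ (sw v) = sw (φ v)) (x : W6) :
    A (s6 x) = s6 (A x) := (h.mul (nb nm_sw')).uniq (funext c ▸ (nb nm_sw').mul h) x

theorem Nb.eq_pa {φ : V8 → V8} (h : Nb φ id) : ∃ x, (∀ v, φ v = pa x v) ∨ ∀ v, φ v = -pa x v :=
  Nm.eq_pa ⟨h.add, h.inj, h.nm, fun _ => rfl⟩

theorem nb_gen {φ : V8 → V8} (ad : ∀ u v, φ (u + v) = φ u + φ v) (n : ℕ)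
    (per : bas8.Forall fun v => φ^[n] (φ v) = v)
    (nm : gens.Forall fun x => ∃ y a, bas8.Forall fun v => φ (pa x v) = sn a • pa y (φ v)) : ∃ A, Nb φ A := by
  have k := ind6 (P := fun x => ∃ y a, ∀ v, φ (pa x v) = sn a • pa y (φ v)) (by
      rintro x y ⟨x', a, ea⟩ ⟨y', b, eb⟩
      refine ⟨x' + y', c6 x y + (a + (b + c6 x' y')), fun v => ?_⟩
      have := congrArg φ (pa_mul x y v)
      rw [add_smul3 ad, ea, eb, pa_smul, pa_mul] at this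
      rw [sn_add, sn_add, sn_add, mul_smul, mul_smul, mul_smul, this, smul_smul, sn_sq, one_smul])
    (nm.imp fun x ⟨y, a, h⟩ =>
      ⟨y, a, ext8 (fun u v => by rw [pa_add, ad]) (fun u v => by rw [ad, pa_add, smul_add]) h⟩)
  choose A hA using k
  refine ⟨A, ad, Function.LeftInverse.injective (g := φ^[n]) (ext8 (k' := id) (fun u v => ?_) (fun _ _ => rfl) per),
    fun x => sg_iff.2 (hA x)⟩
  rw [ad]; exact iterate_map_add (AddMonoidHom.mk' φ ad) n _ _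

end H7.B3
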