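import Cfsg.Agent.Lib.B3L.Def
import Cfsg.Agent.Lib.F3L.IniA
import Cfsg.Agent.Lib.F3L.Tw8

/-! The centralizer of `sw` in the full normalizer of the extraspecial group. -/

set_option autoImplicit false
set_option synthInstance.maxSize 2000

namespace H7.B3

open H7.F3 H7.F3.Gam
open H87.U6 (F3 f3_cases)

/-- the `-1` eigenspace of `sw` -/
def xm (b : W2) : V8 := ((0, b), (-b, 0))
def ap2 (w : W4) (b : W2) : W2 := (w.1.1 * b.1 + w.1.2 * b.2, w.2.1 * b.1 + w.2.2 * b.2)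
/-- block matrices -/
def bw (p : W4 × Mx) (v : V8) : V8 := xm (ap2 p.1 (v.2.1 - v.1.2)) + io (p.2.ap (oi v))
/-- a matrix on the plane `k` -/
def on (k : Fin 3) (a b c d : F3) : Mx := ⟨Function.update 1 k a, Pi.single k b, Pi.single k c, Function.update 1 k d⟩
def rI : Fin 3 → W4 × Mx := ![(((1, 1), (2, 1)), ⟨![1, 0, 0], ![2, 1, 1], ![1, 1, 1], ![1, 0, 0]⟩),
  (((1, 1), (2, 1)), ⟨![0, 1, 0], ![1, 2, 1], ![1, 1, 1], ![0, 1, 0]⟩),
  (((1, 1), (2, 1)), ⟨![0, 0, 1], ![1, 1, 2], ![1, 1, 1], ![0, 0, 1]⟩)]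
def rJ : Fin 3 → W4 × Mx := ![(((0, 1), (1, 1)), ⟨![0, 1, 1], ![1, 0, 0], ![1, 2, 2], ![2, 2, 2]⟩),
  (((0, 1), (1, 1)), ⟨![1, 0, 1], ![0, 1, 0], ![2, 1, 2], ![2, 2, 2]⟩),
  (((0, 1), (1, 1)), ⟨![1, 1, 0], ![0, 0, 1], ![2, 2, 1], ![2, 2, 2]⟩)]
def l6 (a b c d x : W6) : W6 :=
  x.1.1 • a + x.1.2 • b + (x.2.1.1 • s6 a + x.2.1.2 • s6 b) + (x.2.2.1 • c + x.2.2.2 • d)

theorem eqns_gam : True := by
  have := @xm.eq_1
  have := @ap2.eq_1
  have := @bw.eq_1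
  have := @on.eq_1
  have := @l6.eq_1
  trivial

theorem xm_add (a b : W2) : xm (a + b) = xm a + xm b := by simp [xm, add_comm]

theorem bw_add (p : W4 × Mx) (u v : V8) : bw p (u + v) = bw p u + bw p v := by
  have : ap2 p.1 ((u + v).2.1 - (u + v).1.2) = ap2 p.1 (u.2.1 - u.1.2) + ap2 p.1 (v.2.1 - v.1.2) := by
    simp only [ap2, Prod.fst_add, Prod.snd_add, Prod.fst_sub, Prod.snd_sub, Prod.mk_add_mk]; congr 1 <;> ring
  rw [bw, bw, bw, oi_add, ap_add, io_add, this, xm_add]; abel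

theorem cb_I (k : Fin 3) : Cb (bw (rI k)) :=
  ⟨nb_gen (bw_add _) 7 (by revert k; decide +kernel) (by revert k; decide +kernel),
    ext8 (fun u v => by rw [sw_add, bw_add]) (fun u v => by rw [bw_add, sw_add]) (by revert k; decide +kernel)⟩

theorem cb_J (k : Fin 3) : Cb (bw (rJ k)) :=
  ⟨nb_gen (bw_add _) 7 (by revert k; decide +kernel) (by revert k; decide +kernel),
    ext8 (fun u v => by rw [sw_add, bw_add]) (fun u v => by rw [bw_add, sw_add]) (by revert k; decide +kernel)⟩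

theorem sq_I (k : Fin 3) (v : V6) : bw (rI k) (bw (rI k) (io v)) = io ((on k 0 1 (-1) 0).ap v) :=
  ext6 (k := fun v => bw (rI k) (bw (rI k) (io v))) (k' := fun v => io ((on k 0 1 (-1) 0).ap v))
    (fun u v => by rw [io_add, bw_add, bw_add]) (fun u v => by rw [ap_add, io_add]) (by revert k; decide +kernel) v

theorem sq_J (k : Fin 3) (v : V6) : bw (rJ k) (bw (rJ k) (io v)) = io ((on k 1 (-1) (-1) (-1)).ap v) :=
  ext6 (k := fun v => bw (rJ k) (bw (rJ k) (io v))) (k' := fun v => io ((on k 1 (-1) (-1) (-1)).ap v))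
    (fun u v => by rw [io_add, bw_add, bw_add]) (fun u v => by rw [ap_add, io_add]) (by revert k; decide +kernel) v

/-- `sw` is a commutator -/
theorem sw_comm (v : V8) : bw (rI 0) (bw (rI 0) (tau ![1, 1, 0] (bw (rJ 0) (bw (rJ 0) (tau ![2, 2, 0] v))))) =
    sw (tau ![1, 1, 0] (bw (rJ 0) (bw (rJ 0) (tau ![2, 2, 0] (bw (rI 0) (bw (rI 0) v)))))) :=
  ext8 (k := fun v => bw (rI 0) (bw (rI 0) (tau ![1, 1, 0] (bw (rJ 0) (bw (rJ 0) (tau ![2, 2, 0] v))))))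
    (k' := fun v => sw (tau ![1, 1, 0] (bw (rJ 0) (bw (rJ 0) (tau ![2, 2, 0] (bw (rI 0) (bw (rI 0) v)))))))
    (fun u v => by simp only [bw_add, tau_add]) (fun u v => by simp only [bw_add, tau_add, sw_add])
    (by decide +kernel) v

theorem on_mul (k : Fin 3) (a b c d a' b' c' d' : F3) : (on k a b c d).mul (on k a' b' c' d') =
    on k (a * a' + b * c') (a * b' + b * d') (c * a' + d * c') (c * b' + d * d') := by
  ext i <;> by_cases e : i = k <;> simp [on, Mx.mul, e]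

theorem all_of {P : Mx → Prop} (mul : ∀ m n, P m → P n → P (m.mul n)) (hI : ∀ k, P (on k 0 1 (-1) 0))
    (hJ : ∀ k, P (on k 1 (-1) (-1) (-1))) {m : Mx} (d : m.det1) (q : m.q8) : P m := by
  have k : ∀ k, P (on k (m.a k) (m.b k) (m.c k) (m.d k)) := fun k => by
    have i2 := mul _ _ (hI k) (hI k)
    have i3 := mul _ _ (hI k) i2
    have i4 := mul _ _ (hI k) i3
    have j1 := mul _ _ (hI k) (hJ k)
    have j2 := mul _ _ (hI k) j1
    have j3 := mul _ _ (hI k) j2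
    simp only [on_mul] at i2 i3 i4 j1 j2 j3
    rcases (by decide +kernel : ∀ a b c d : F3, a * d - b * c = 1 → a + d = 0 ∨ b = 0 ∧ c = 0 →
      (a = 0 ∧ b = 1 ∧ c = -1 ∧ d = 0) ∨ (a = 1 ∧ b = -1 ∧ c = -1 ∧ d = -1) ∨ (a = 2 ∧ b = 0 ∧ c = 0 ∧ d = 2) ∨
      (a = 0 ∧ b = 2 ∧ c = 1 ∧ d = 0) ∨ (a = 1 ∧ b = 0 ∧ c = 0 ∧ d = 1) ∨ (a = 2 ∧ b = 2 ∧ c = 2 ∧ d = 1) ∨
      (a = 2 ∧ b = 1 ∧ c = 1 ∧ d = 1) ∨ (a = 1 ∧ b = 1 ∧ c = 1 ∧ d = 2)) _ _ _ _ (d k) (q k)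
      with e | e | e | e | e | e | e | e <;> rw [e.1, e.2.1, e.2.2.1, e.2.2.2]
    exacts [hI k, hJ k, i2, i3, i4, j1, j2, j3]
  convert mul _ _ (k 0) (mul _ _ (k 1) (k 2)) using 1
  ext i <;> fin_cases i <;> simp [on, Mx.mul]

theorem on_ok (a b c d : F3) (e : a * d - b * c = 1) (q : a + d = 0) : (on 0 a b c d).det1 ∧ (on 0 a b c d).q8 ∧
    ∀ j, j ≠ 0 → (on 0 a b c d).a j = 1 ∧ (on 0 a b c d).b j = 0 ∧ (on 0 a b c d).c j = 0 ∧ (on 0 a b c d).d j = 1 :=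
  ⟨fun i => by by_cases h : i = 0 <;> simp [on, h, e], fun i => by by_cases h : i = 0 <;> simp [on, h, q],
    fun j h => by simp [on, h]⟩

theorem Nb.diag {φ : V8 → V8} {A : W6 → W6} (n : Nb φ A) (c : ∀ v, φ (sw v) = sw (φ v)) (x : B2) :
    ∃ y, A (x, x, 0) = (y, y, 0) := by
  have k : ∀ u : W6, u + Gam.s6 u = (u.1 + u.2.1, u.1 + u.2.1, 0) := by decide +kernel
  exact ⟨_, by rw [← k (A (x, 0, 0)), ← n.s6 c, ← n.A_add]; simp [Gam.s6]⟩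

theorem Cb.io {φ : V8 → V8} (h : Cb φ) (v : V6) : φ (io v) = io (oi (φ (io v))) := by
  obtain ⟨u, e⟩ := mem_io (v := φ (F3.io v)) (by rw [← h.2, sw_io])
  rw [e, oi_io]

theorem Cb.mon {φ : V8 → V8} (h : Cb φ) (is : ∀ u v, b8 (φ u) (φ v) = b8 u v) :
    ∃ π, ∃ m : Mx, m.det1 ∧ ∀ v, φ (F3.io v) = F3.io (m.ap (pm π v)) := by
  obtain ⟨A, n⟩ := h.1
  have ad : ∀ u v, oi (φ (F3.io (u + v))) = oi (φ (F3.io u)) + oi (φ (F3.io v)) := fun u v => by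
    rw [io_add, n.add, oi_add]
  have k : ∀ i, ∃ ε : X3, ∀ v, oi (φ (F3.io (ng i v))) = (ε * (oi (φ (F3.io v))).1, ε * (oi (φ (F3.io v))).2) :=
    fun i => by
    obtain ⟨a, x, e⟩ := (by decide +kernel : ∀ i, ∃ (a : ZMod 2) (x : B2), bas6.Forall fun v =>
      sn a • pa (x, x, 0) (F3.io v) = F3.io (Mx.ap ⟨sg i, 0, 0, sg i⟩ v)) i
    obtain ⟨b, eb⟩ := n.sgn3 (x, x, 0)
    obtain ⟨y, ey⟩ := n.diag h.2 x
    obtain ⟨ε, f⟩ := (by decide +kernel : ∀ (a : ZMod 2) (x : B2), ∃ ε : X3, bas6.Forall fun v =>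
      sn a • pa (x, x, 0) (F3.io v) = F3.io (Mx.ap ⟨ε, 0, 0, ε⟩ v)) (a + b) y
    refine ⟨ε, fun v => ?_⟩
    rw [ng_eq, ← sn_io e, n.smul3, eb, ey, smul_smul, ← sn_add, h.io v, sn_io f, oi_io, oi_io]
    simp [Mx.ap]
  choose ε hε using k
  obtain ⟨π, hπ⟩ := Ini.perm (φ := fun v => oi (φ (F3.io v))) hε
    (F3.add_neg' (φ := fun v => oi (φ (F3.io v))) ad) fun v e => io_inj (n.inj (by
    rw [h.io, e, show F3.io 0 = 0 by decide, add_zero' n.add]))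
  obtain ⟨m, d, e⟩ := Ini.mono (φ := fun v => oi (φ (F3.io v))) ad (fun u v => by rw [← b8_io, ← h.io, ← h.io, is, b8_io]) π hπ
  exact ⟨π, m, d, fun v => by rw [h.io, e]⟩

theorem Cb.ker {φ : V8 → V8} (h : Cb φ) (e : ∀ v, φ (F3.io v) = F3.io v) : (∀ v, φ v = v) ∨ ∀ v, φ v = sw v := by
  obtain ⟨⟨A, n⟩, cs⟩ := h
  have cm : ∀ b v, φ (pa (0, 0, b) v) = pa (0, 0, b) (φ v) := fun b v => by
    obtain ⟨a, ea⟩ := n.sgn3 (0, 0, b)
    obtain ⟨f, rfl⟩ := (by decide +kernel : ∀ (b : B2) (y : W6) (a : ZMod 2),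
      (bas6.Forall fun v => pa (0, 0, b) (F3.io v) = sn a • pa y (F3.io v)) → y = (0, 0, b) ∧ a = 0) b (A (0, 0, b)) a
      (List.forall_iff_forall_mem.2 fun v _ => by
        obtain ⟨u, hu⟩ := mem_io (v := pa (0, 0, b) (F3.io v)) (by rw [sw_pa, sw_io]; rfl)
        rw [← e v, ← ea, e v, hu, e])
    rw [ea, f]; exact one_smul _ _
  have s := Tw.neg_sw (w := φ (xm (1, 0))) (by rw [← cs, ← n.neg3]; rfl)
  generalize (φ (xm (1, 0))).1.2 = b at s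
  have s1 : φ (xm (0, 1)) = pa (0, 0, (1, 0)) (xm b) := (cm (1, 0) (xm (1, 0))).trans (congrArg _ s)
  have s2 : xm b + pa (0, 0, (1, 0)) (xm b) = pa (0, 0, (0, 1)) (xm b) := by
    have := (cm (0, 1) (xm (1, 0))).trans (congrArg _ s)
    rwa [show pa (0, 0, (0, 1)) (xm (1, 0)) = xm (1, 0) + xm (0, 1) by decide, n.add, s1, s] at this
  have k : ∀ v, φ v = (v.2.1 - v.1.2).1 • xm b + (v.2.1 - v.1.2).2 • pa (0, 0, (1, 0)) (xm b) + F3.io (oi v) :=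
    fun v => by
    have : v = (v.2.1 - v.1.2).1 • xm (1, 0) + (v.2.1 - v.1.2).2 • xm (0, 1) + F3.io (oi v) :=
      (io_oi v).trans (by congr 1; ext <;> simp [xm, sw])
    conv_lhs => rw [this, n.add, n.add, n.smul3, n.smul3, e, s1, s]
    rfl
  rcases (by decide +kernel : ∀ b : W2, xm b + pa (0, 0, (1, 0)) (xm b) = pa (0, 0, (0, 1)) (xm b) →
    b = 0 ∨ b = (1, 0) ∨ b = (2, 0)) b s2 with rfl | rfl | rfl
  · exact absurd (n.inj (s.trans (add_zero' n.add).symm)) (by decide)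
  · exact .inl (ext8 (k' := id) n.add (fun _ _ => rfl) (by simp only [k]; decide +kernel))
  · exact .inr (ext8 n.add sw_add (by simp only [k]; decide +kernel))

/-- the stabilizer of two vectors is a 2-group -/
theorem two_grp {B : W6 → W6} (ad : ∀ x y, B (x + y) = B x + B y) (q : ∀ x, q6 (B x) = q6 x)
    (s : ∀ x, B (s6 x) = s6 (B x)) (h1 : B ((1, 0), (1, 0), 0) = ((1, 0), (1, 0), 0))
    (h2 : (B (0, 0, (1, 0))).2.2 = (1, 0)) : B^[8] = id := by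
  have sm : ∀ (a : ZMod 2) x, B (a • x) = a • B x := ZMod.map_smul (AddMonoidHom.mk' B ad)
  have e : B = l6 (B ((1, 0), 0, 0)) (B ((0, 1), 0, 0)) (B (0, 0, (1, 0))) (B (0, 0, (0, 1))) := funext fun x => by
    simp only [l6, ← s, ← sm, ← ad]
    congr 1; revert x; decide +kernel
  have := (by decide +kernel : ∀ a : W6, q6 a = 1 → a + s6 a = ((1, 0), (1, 0), 0) → ∀ b : W6, q6 b = 1 →
    q6 (a + b) = 1 → q6 (a + s6 b) = 0 → ∀ c : W6, s6 c = c → c.2.2 = (1, 0) → q6 (a + c) = 0 → q6 (b + c) = 0 →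
    ∀ d : W6, s6 d = d → q6 d = 1 → q6 (c + d) = 1 → q6 (a + d) = 0 → q6 (b + d) = 0 →
      gens.Forall fun x => (l6 a b c d)^[8] x = x) _ (q ((1, 0), 0, 0)) (by rw [← s, ← ad]; exact h1)
    _ (q ((0, 1), 0, 0)) (by rw [← ad, q]; rfl) (by rw [← s, ← ad, q]; rfl) _ (s (0, 0, (1, 0))).symm h2
    (by rw [← ad, q]; rfl) (by rw [← ad, q]; rfl) _ (s (0, 0, (0, 1))).symm (q _) (by rw [← ad, q]; rfl)
    (by rw [← ad, q]; rfl) (by rw [← ad, q]; rfl)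
  rw [← e] at this
  exact funext (ind6 (fun x y a b => (iterate_map_add (AddMonoidHom.mk' B ad) 8 x y).trans (congrArg₂ _ a b)) this)

theorem Nb.iter {φ : V8 → V8} {A : W6 → W6} (h : Nb φ A) : ∀ n : ℕ, Nb φ^[n] A^[n]
  | 0 => nb (nm_pa 0)
  | n + 1 => (h.iter n).mul h

end H7.B3
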