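import Cfsg.Agent.Lib.B3L.Gam
import Cfsg.Agent.Lib.F3L.K8
import Cfsg.Agent.Lib.F3L.On8B
import Cfsg.Agent.Lib.E3L.Fj

/-! The centralizer of `d` has the 3-local configuration of `²E₆(2)`. -/

set_option autoImplicit false
set_option linter.unusedSectionVars false
set_option synthInstance.maxSize 2000

namespace H7.B3

open Subgroup H87.Mc Cfsg H7.F3 H7.F3.U6x H7.F3.Gam H7.E3
open H7.F3.K8 (io_zero io_neg io_eq_zero prod_eq)
open H87.U6 (F3 f3_cases pw_add pw_zero pw_one pw_two pw_neg pw_mul pw_inj mem_zp cj_pw cm_cj)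

variable {G : Type*} [Group G]

theorem card_le_mul [Finite G] {S : Type*} [Finite S] {T K : Subgroup G} (j : T → S)
    (h : ∀ u v, j u = j v → (u : G)⁻¹ * v ∈ K) : Nat.card T ≤ Nat.card S * Nat.card K := by
  have e := fun v : T => Function.invFun_eq (f := j) ⟨v, rfl⟩
  refine (Nat.card_le_card_of_injective (fun v : T => (j v, (⟨_, h _ v (e v)⟩ : K)))
    fun u v a => ?_).trans_eq (Nat.card_prod _ _)
  have a1 : j u = j v := congrArg Prod.fst a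
  have a2 : ((Function.invFun j (j u) : T) : G)⁻¹ * u = ((Function.invFun j (j v) : T) : G)⁻¹ * v :=
    congrArg (fun p : S × K => (p.2 : G)) a
  rw [a1] at a2
  exact Subtype.ext (mul_left_cancel a2)

/-- the frame together with the involution `d` -/
structure DB (z : G) (l : V8 → G) (t d : G) : Prop extends B8 z l t where
  ed : Ex z l t d sw
  d2 : d * d = 1

namespace DB

variable {z t d : G} {l : V8 → G} (h : DB z l t d)
include h

theorem zc : z * d = d * z := h.ed.cz.symm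
theorem tc : t * d = d * t := h.ed.ct.symm
theorem lc (u : V6) : l (io u) * d = d * l (io u) := (cm_cj.2 (h.ed.act _)).symm

/-- the image of `z` -/
def zb : Kb d := pj z h.zc
/-- the images of the coordinates -/
def lb (u : V6) : Kb d := pj (l (io u)) (h.lc u)
/-- the image of `t` -/
def tb : Kb d := pj t h.tc

theorem zb3 : h.zb ^ 3 = 1 := by rw [zb, pj_pow]; exact pj_1 h.z3
theorem zp3 (n : ℕ) : (z ^ n) ^ 3 = 1 := by rw [← pow_mul, mul_comm, pow_mul, h.z3, one_pow]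

theorem lift_z {g : G} {c : g * d = d * g} (e : pj g c * h.zb = h.zb * pj g c) : g * z = z * g := by
  rw [cm_cj, zb, pj_mul, pj_inv, pj_mul] at e
  exact cm_cj.2 (eq3 h.d2 e (cj3 h.z3) h.z3)

theorem pj_q (u : V6) (k : F3) (c : qq z l (io u) k * d = d * qq z l (io u) k) :
    pj (qq z l (io u) k) c = qq h.zb h.lb u k := by
  rw [qq.eq_1 h.zb, zb, lb, pj_pow, pj_mul]; rfl

theorem cs_of {g : G} (c : g * d = d * g) (gz : g * z = z * g) : ∃ φ, Cb φ ∧ Ac z l g φ := by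
  obtain ⟨φ, A, n, a⟩ := h.img g gz
  exact ⟨φ, ⟨⟨A, n⟩, fun v => (h.ac_uniq (h.ac_mul a h.ed.ac) (c ▸ h.ac_mul h.ed.ac a) v :)⟩, a⟩

theorem ac_down {g : G} (c : g * d = d * g) {φ : V8 → V8} (a : Ac z l g φ) {ψ : V6 → V6}
    (e : ∀ v, φ (io v) = io (ψ v)) : Ac h.zb h.lb (pj g c) ψ := by
  refine ⟨by simp only [zb, pj_mul]; exact pj_congr a.1, fun v => ?_⟩
  obtain ⟨k, hk⟩ := a.2 (io v)
  rw [e] at hk
  refine ⟨k, Eq.trans ?_ (h.pj_q _ k (cmul (h.lc _) (cpow h.zc _)))⟩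
  simp only [lb, pj_mul, pj_inv]
  exact pj_congr hk

theorem ex_down {g : G} (c : g * d = d * g) {φ : V8 → V8} (a : Ex z l t g φ) {ψ : V6 → V6}
    (e : ∀ v, φ (io v) = io (ψ v)) : Ex h.zb h.lb h.tb (pj g c) ψ :=
  ⟨by simp only [zb, pj_mul]; exact pj_congr a.cz, by simp only [tb, pj_mul]; exact pj_congr a.ct, fun v => by
    simp only [lb, pj_mul, pj_inv]; exact pj_congr (by rw [a.act, e])⟩

theorem lift0 {φ : V8 → V8} {g : G} (b : Ac z l g φ) (s : ∀ v, φ (sw v) = sw (φ v)) :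
    ∃ g, Ex z l t g φ ∧ g * d = d * g := by
  obtain ⟨n, -, b⟩ := h.exists_ex b
  generalize n * g = g at b
  obtain ⟨k, e⟩ := h.ex_eq (h.ed.mul b) (b.mul h.ed) fun v => (s v).symm
  have e1 : g * d * g⁻¹ = d * z ^ k.val := by rw [e, mul_assoc d, mul_assoc d, cjz b.cz]
  have e2 : (z ^ k.val) ^ 2 = 1 := by
    have := congrArg (· ^ 2) e1
    simp only [conj_pow, ((show Commute d z from h.ed.cz).pow_right _).mul_pow, pow_two d, h.d2] at this
    simpa using this.symm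
  have e3 := h.zp3 k.val
  rw [pow_succ, e2, one_mul] at e3
  exact ⟨g, b, by rw [e, e3, mul_one]⟩

theorem lift {φ : V8 → V8} (a : Cs φ) : ∃ g, Ex z l t g φ ∧ g * d = d * g :=
  let ⟨⟨A, n⟩, s⟩ := a
  let ⟨_, b⟩ := h.all φ A n
  h.lift0 b s

theorem lift2 {φ : V8 → V8} (a : Cb φ) : ∃ g, Ex z l t g (fun v => φ (φ v)) ∧ g * d = d * g :=
  let ⟨⟨A, n⟩, s⟩ := a
  let ⟨_, b⟩ := h.sq φ A n
  h.lift0 b fun v => by rw [s, s]

theorem mon' (x : Kb d) (hx : x * h.zb = h.zb * x) :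
    ∃ π, ∃ m : Mx, m.det1 ∧ Ac h.zb h.lb x fun v => m.ap (pm π v) := by
  obtain ⟨g, c, rfl⟩ := pj_sur x
  obtain ⟨φ, s, a⟩ := h.cs_of c (h.lift_z hx)
  obtain ⟨π, m, hd, b⟩ := s.mon (h.ac_be a)
  exact ⟨π, m, hd, h.ac_down c a b⟩

theorem a0 : A0 b6 h.zb h.lb h.tb where
  toSy := sy6
  z3 := h.zb3
  z1 e := h.z1 (eq3 h.d2 (e.trans (pj_one _)) h.z3 (one_pow 3))
  lz v := by simp only [zb, lb, pj_mul]; exact pj_congr (h.lz _)
  lmul u v := by simp only [zb, lb, pj_mul, pj_pow]; exact pj_congr (by rw [h.lmul, io_add, b8_io])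
  linj v hv := by
    obtain ⟨k, e⟩ := (mem_zp h.zb3).1 hv
    rw [zb, pj_pow, lb] at e
    exact io_eq_zero (h.linj _ (eq3 h.d2 e (h.lcube _) (h.zp3 _) ▸ pow_mem (mem_zpowers z) _))
  nQ g hg v := let ⟨_, _, _, a⟩ := h.mon' g hg; ⟨_, a.2 v⟩
  cQ g hg e := by
    obtain ⟨g, c, rfl⟩ := pj_sur g
    have fx : ∀ u, g * l (io u) * g⁻¹ = l (io u) := fun u => by
      have e := cm_cj.1 (e u)
      simp only [lb, pj_mul, pj_inv] at e
      exact eq3 h.d2 e (cj3 (h.lcube _)) (h.lcube _)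
    have inQ : ∀ g (c : g * d = d * g), g ∈ Qs z l → (∀ u, g * l (io u) * g⁻¹ = l (io u)) →
        pj g c ∈ zpowers h.zb := fun g c hg e => by
      obtain ⟨w, k, rfl⟩ := h.memQ.1 hg
      obtain ⟨u, rfl⟩ := mem_io (h.q_inj ((h.ed.q w k).symm.trans (cm_cj.1 c.symm))).1
      obtain rfl : u = 0 := sy6.nd u fun v => by
        rw [← b8_io]
        exact (h.qcm k 0).1 (by rw [q0]; exact cm_cj.2 (e v))
      rw [h.pj_q, qq, lb, pj_1 (by rw [io_zero, h.l0]), one_mul]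
      exact pow_mem (mem_zpowers _) _
    obtain ⟨φ, s, a⟩ := h.cs_of c (h.lift_z hg)
    rcases s.ker fun u => by
      obtain ⟨k, hk⟩ := a.2 (io u)
      exact (h.q_inj (hk.symm.trans ((fx u).trans (q0 z l _).symm))).1 with s | s
    · exact inQ g c (h.memQ_of_ac (a.congr s)) fx
    · have := inQ (g * d) (cmul c rfl) (h.memQ_of_ac ((h.ac_mul a h.ed.ac).congr fun v => s _)) fun u => by
        rw [mul_inv_rev, mul_assoc g, ← h.lc, mul_assoc g, mul_assoc (l _), mul_inv_cancel_left, ← mul_assoc, fx u]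
      rwa [← pj_eq.2 (show g⁻¹ * (g * d) ∈ zpowers d by simp)] at this
  t2 := by rw [tb, pj_mul]; exact pj_1 h.t2
  tz := by simp only [zb, tb, pj_mul]; exact pj_congr h.tz
  tl v := by simp only [lb, tb, pj_mul, pj_inv]; exact pj_congr (by rw [io_neg, h.tl])

theorem e0 [Finite G] : ∃ r, E0 h.zb h.lb r ∧ r 0 * r 1 * r 2 = h.tb := by
  have : ∀ k, ∃ x, x * x = 1 ∧ Ex h.zb h.lb h.tb x (ng k) := fun k => by
    obtain ⟨φ, s, -, e, -⟩ := cs_ng k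
    obtain ⟨g, a, c⟩ := h.lift s
    have a := h.ex_down c a e
    generalize pj g c = x at a
    obtain ⟨j, e⟩ := h.a0.ex_eq Ex.one (a.mul a) fun v => (ng_ng k v).symm
    refine ⟨x ^ 3, ?_, (a.pow 3).congr fun v => ng_ng k _⟩
    rw [← (Commute.refl x).mul_pow, e, one_mul, ← pow_mul, mul_comm, pow_mul, h.zb3, one_pow]
  choose r r2 er using this
  have e := prod_eq h.a0 r2 er
  refine ⟨r, ⟨e ▸ h.a0, r2, e ▸ er, h.mon', fun m d q => ?_⟩, e⟩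
  obtain ⟨x, b⟩ := all_of (P := fun m => ∃ x, Ex h.zb h.lb h.tb x m.ap)
    (fun m n ⟨x, a⟩ ⟨y, b⟩ => ⟨x * y, (a.mul b).congr fun v => (Mx.ap_mul ..).symm⟩)
    (fun k => let ⟨g, a, c⟩ := h.lift2 (cb_I k); ⟨_, h.ex_down c a (sq_I k)⟩)
    (fun k => let ⟨g, a, c⟩ := h.lift2 (cb_J k); ⟨_, h.ex_down c a (sq_J k)⟩) d q
  obtain ⟨k, e4⟩ := h.a0.ex_eq Ex.one (b.pow 4) fun v => (q.four d v).symm
  refine ⟨x ^ 9, ?_, e ▸ (b.pow 9).congr fun v => (q.four d _).trans (q.four d _)⟩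
  rw [← pow_mul, mul_comm 9, pow_mul, e4, one_mul, ← pow_mul, show k.val * 9 = 3 * (k.val * 3) by ring, pow_mul,
    h.zb3, one_pow]

theorem pj_Q {x : G} (q : x ∈ Qs z l) (c : x * d = d * x) : pj x c ∈ Qs h.zb h.lb := by
  obtain ⟨w, k, rfl⟩ := h.memQ.1 q
  obtain ⟨w, rfl⟩ := mem_io (h.q_inj ((h.ed.q w k).symm.trans (cm_cj.1 c.symm))).1
  rw [h.pj_q]; exact qQ _ _

theorem b9 [Finite G] : B9 h.zb := fun T p cT => by
  choose g c e using fun x : T => pj_sur (x : Kb d)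
  have gz : ∀ x, g x * z = z * g x := fun x => h.lift_z (e x ▸ cT x x.2)
  choose φ s a using fun x => h.cs_of (c x) (gz x)
  choose A n using fun x => (s x).1
  choose y hy using fun x => (n x).diag (s x).2 (1, 0)
  have nz : ∀ x, y x ≠ 0 ∧ (A x (0, 0, (1, 0))).2.2 ≠ 0 := fun x => by
    refine (by decide +kernel : ∀ (b : B2) (u w : W6), u + s6 u = (b, b, 0) → q6 (u + s6 u + w) = q6 w + 1 →
      b ≠ 0) _ (A x ((1, 0), 0, 0)) (A x ((0, 1), 0, 0)) ?_ ?_ |> fun k => ⟨k, ?_⟩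
    · rw [← (n x).s6 (s x).2, ← (n x).A_add]; exact hy x
    · rw [← (n x).s6 (s x).2, ← (n x).A_add, ← (n x).A_add, (n x).A_q6, (n x).A_q6]; rfl
    · exact (by decide +kernel : ∀ u : W6, s6 u = u → q6 u = 1 → u.2.2 ≠ 0) _ ((n x).s6 (s x).2 (0, 0, (1, 0))).symm
        ((n x).A_q6 _)
  refine (card_le_mul (K := Qs h.zb h.lb) (S := {b : B2 // b ≠ 0} × {b : B2 // b ≠ 0})
    (fun x => (⟨_, (nz x).1⟩, ⟨_, (nz x).2⟩)) fun u v k => ?_).trans_eq (by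
      rw [h.a0.cardQ, card_V6, Nat.card_prod, Nat.card_eq_fintype_card]; rfl)
  simp only [Prod.mk.injEq, Subtype.mk.injEq] at k
  obtain ⟨ψ, ⟨⟨C, m⟩, s'⟩, b⟩ := h.cs_of (cinv (c u)) (show Commute (g u) z from gz u).inv_left
  have i : ∀ x, C (A u x) = x := (m.mul (n u)).uniq (B := id) (by
    rw [show (fun v => ψ (φ u v)) = pa 0 from funext (h.ac_uniq (h.ac_mul b (a u)) (inv_mul_cancel (g u) ▸ h.ac_one))]
    exact nb (nm_pa 0))
  have m2 := m.mul (n v)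
  have e8 := two_grp m2.A_add m2.A_q6 (m2.s6 fun w => by rw [(s v).2, s']) (by rw [hy, ← k.1, ← hy, i]) (by
    obtain ⟨x, ex⟩ := (by decide +kernel : ∀ u w : W6, s6 u = u → s6 w = w → u.2.2 = w.2.2 → ∃ x, w = u + (x, x, 0))
      _ _ ((n u).s6 (s u).2 (0, 0, (1, 0))).symm ((n v).s6 (s v).2 (0, 0, (1, 0))).symm k.2
    obtain ⟨x', ex'⟩ := m.diag s' x
    rw [ex, m.A_add, i, ex']; rfl)
  obtain ⟨x, ex⟩ := (e8 ▸ m2.iter 8 :).eq_pa
  have q : (((g u)⁻¹ * g v) ^ 8) ^ 4 ∈ Qs z l :=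
    h.memQ_of_ac ((h.ac_pow (h.ac_pow (h.ac_mul b (a v)) 8) 4).congr fun w => by
      rcases ex with ex | ex <;> simp only [Function.iterate_succ_apply' _ 3, Function.iterate_succ_apply' _ 2,
        Function.iterate_succ_apply' _ 1, Function.iterate_one, ex, pa_neg, neg_neg, pa_pa, pa_smul, smul_smul,
        sn_sq, one_smul, id])
  have cq := cpow (cpow (cmul (cinv (c u)) (c v)) 8) 4
  have q' : (((u : Kb d)⁻¹ * v) ^ 8) ^ 4 ∈ Qs h.zb h.lb := by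
    rw [e u, e v, pj_inv, pj_mul, pj_pow, pj_pow]
    exact h.pj_Q q cq
  obtain ⟨j, hj⟩ := p (u⁻¹ * v)
  rw [← pow_mul] at q'
  exact zpowers_le.2 q' (mem_zpowers_pow_iff.2 (Nat.Coprime.coprime_dvd_right
    (orderOf_dvd_of_pow_eq_one (congrArg Subtype.val hj)) (Nat.Coprime.pow_right j (by norm_num))))

theorem nw [Finite G] {y : G} (yQ : y ∈ Qs z l) (yz : y ∉ zpowers z) {T : Subgroup G}
    (p : IsPGroup 3 T) (big : 3 ^ 9 ≤ Nat.card T) (yT : y ∈ T) (c : ∀ x ∈ T, x * d = d * x ∧ x * y = y * x) :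
    NW h.zb := by
  obtain ⟨X, hQ, pX, cX, cen, mx⟩ := h.a0.exists_syl
  let f : T →* Kb d := MonoidHom.mk' (fun x => pj x (c x x.2).1) fun _ _ => rfl
  have inj : Function.Injective f := (injective_iff_map_eq_one f).2 fun x e => by
    obtain ⟨k, hk⟩ := p x
    rcases mem_z2 h.d2 ((pj_eq (c' := (c x x.2).1)).1 ((pj_one d).symm.trans e.symm)) with e | e <;> rw [inv_one, one_mul] at e
    · exact Subtype.ext e
    · obtain ⟨j, hj⟩ : Odd (3 ^ k) := Odd.pow (by decide)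
      have x2 : x ^ 2 = 1 := Subtype.ext (by rw [pow_two, coe_mul, e]; exact h.d2)
      rwa [hj, pow_succ, pow_mul, x2, one_pow, one_mul] at hk
  have cy := (c y yT).1
  have ny : pj y cy ∉ zpowers h.zb := fun hy => by
    obtain ⟨k, e⟩ := (mem_zp h.zb3).1 hy
    rw [zb, pj_pow] at e
    exact yz (eq3 h.d2 e (h.Q3 yQ) (h.zp3 _) ▸ pow_mem (mem_zpowers z) _)
  have yc : Commute (pj y cy) h.zb := by
    simp only [Commute, SemiconjBy, zb, pj_mul]; exact pj_congr (h.QH yQ)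
  obtain ⟨k, -, hk⟩ := conj_cen (K := ⊤) h.zb3 h.a0.z1 le_top (hQ zQ) pX cX cen mx (T := f.range) le_top
    (p.of_surjective _ f.rangeRestrict_surjective)
    ((h.b9 X pX cX).trans (big.trans_eq (Nat.card_congr (MonoidHom.ofInjective inj).toEquiv)))
    (y := pj y cy) ⟨⟨y, yT⟩, rfl⟩ (by rintro _ ⟨x, rfl⟩; exact congrArg f (Subtype.ext (c x x.2).2 : x * ⟨y, yT⟩ = ⟨y, yT⟩ * x))
  rcases (mem_z3 h.zb3).1 hk with e | e | e
  · exact absurd (by rw [show pj y cy = 1 by simpa using e]; exact one_mem _) ny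
  · have : k⁻¹ * h.zb * k⁻¹⁻¹ = pj y cy := by rw [← e]; group
    exact ⟨k⁻¹, by rw [this]; exact yc.eq, by rwa [this]⟩
  · have : k⁻¹ * h.zb * k⁻¹⁻¹ = (pj y cy)⁻¹ := by rw [← inv_inv h.zb, ← e]; group
    exact ⟨k⁻¹, by rw [this]; exact yc.inv_left.eq, by rwa [this, inv_mem_iff]⟩

theorem fused : ∃ g, g * d * g⁻¹ ∈ Kc d ∧ g * d * g⁻¹ ≠ d := by
  obtain ⟨φ, s, -, e, x, hx⟩ := cs_ng 0
  obtain ⟨u, a, cu⟩ := h.lift s
  obtain ⟨g, b⟩ := h.all _ _ (nm_pa x)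
  obtain ⟨n, -, b⟩ := h.exists_ex b
  generalize n * g = g at b
  obtain ⟨k, e1⟩ := h.ex_eq (a.mul b) (b.mul h.ed) hx
  have e2 : g * d * g⁻¹ = u * z ^ k.val := by rw [e1, mul_assoc u, mul_assoc u, cjz b.cz]
  refine ⟨g, mem_centralizer_singleton_iff.2 (e2 ▸ cmul cu (cpow h.zc _)), fun e3 => ?_⟩
  have := h.ac_uniq (a.mul (h.ex_z k.val)).ac (e2 ▸ e3.symm ▸ h.ed.ac) (io (Pi.single 0 1, 0))
  exact absurd (io_inj ((e _).symm.trans this)) (by decide)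

/-- `d` is a commutator of elements over a normal subgroup -/
theorem comm [Finite G] {r : Fin 3 → Kb d} {y : Kb d} {J N : Subgroup (Kb d)} [N.Normal] (s : E3.St h.zb h.lb r y J)
    (e : r 0 * r 1 * r 2 = h.tb) (zN : h.zb ∈ N) (rN : E3.Rs h.zb h.lb r y (1, 0, 0) ⊆ N) :
    ∃ a ca b cb, pj a ca ∈ N ∧ pj (d := d) b cb ∈ N ∧ d = (a * b * a⁻¹ * b⁻¹) ^ 3 := by
  have k : ∀ {x a b c d}, a * d - b * c = 1 → a + d = 0 → Ex h.zb h.lb h.tb x (on 0 a b c d).ap → x ∈ N :=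
    fun {x a b c d} e1 e2 ex => by
    obtain ⟨o1, o2, o3⟩ := on_ok a b c d e1 e2
    obtain ⟨ρ, r4, eρ⟩ := s.all _ o1 o2
    obtain ⟨k, rfl⟩ := s.ex_eq eρ (e ▸ ex) fun _ => rfl
    exact mul_mem (rN (s.memR0.2 ⟨r4, _, o1, o2, o3, eρ⟩)) (pow_mem zN _)
  obtain ⟨a, ea, ca⟩ := h.lift2 (cb_I 0)
  obtain ⟨b, eb, cb⟩ := h.lift2 (cb_J 0)
  obtain ⟨σ, eσ, cσ⟩ := h.lift ⟨⟨_, nm_tau' ![1, 1, 0]⟩, Gam.tau_sw 1 0⟩
  have e' := (eσ.mul eb).mul (eσ.inv (φ' := tau ![2, 2, 0]) fun v => by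
    rw [Ba.tau_tau, show ![1, 1, 0] + ![2, 2, 0] = (0 : X3) by decide, On8.tau_zero])
  obtain ⟨j, ej⟩ := h.ex_eq (h.ed.mul (e'.mul ea)) (ea.mul e') fun v => (sw_comm v).symm
  refine ⟨a, ca, σ * b * σ⁻¹, cmul (cmul cσ cb) (cinv cσ), k (by decide) (by decide) (h.ex_down ca ea (sq_I 0)),
    (inferInstance : N.Normal).conj_mem _ (k (by decide) (by decide) (h.ex_down cb eb (sq_J 0))) (pj σ cσ), ?_⟩
  rw [ej, show d * (σ * b * σ⁻¹ * a) * z ^ j.val * a⁻¹ * (σ * b * σ⁻¹)⁻¹ =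
    d * (σ * b * σ⁻¹ * a * z ^ j.val * (σ * b * σ⁻¹ * a)⁻¹) by group, cjz (e'.mul ea).cz,
    ((show Commute d z from h.ed.cz).pow_right _).mul_pow, h.zp3, mul_one, pow_succ, pow_two, h.d2, one_mul]

end DB

end H7.B3
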