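import Cfsg.Agent.Lib.F3L.Pra
import Cfsg.Agent.Lib.B3L.Def
import Cfsg.Agent.S0246

/-! The starting configuration of the 3-local recognition of the Baby Monster. -/

set_option autoImplicit false

namespace H7.B3

open Subgroup Cfsg H7.F3
open H7.F3.Pra hiding Fm exists_fm pr_top up
open H87.U6.IB (exsp up_zp exists_z cent_zp)
open H62.Hay (Cm)

namespace Pra

/-- the isometries that fix the vectors of a list -/
def Fx (L : List W6) : Subgroup (Equiv.Perm W6) where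
  carrier := {A | (∀ x y, A (x + y) = A x + A y) ∧ (∀ x, q6 (A x) = q6 x) ∧ ∀ b ∈ L, A b = b}
  one_mem' := ⟨fun _ _ => rfl, fun _ => rfl, fun _ _ => rfl⟩
  mul_mem' := fun {A B} a b => ⟨fun x y => by simp only [Equiv.Perm.mul_apply, a.1, b.1],
    fun x => by simp only [Equiv.Perm.mul_apply, a.2.1, b.2.1],
    fun x hx => by rw [Equiv.Perm.mul_apply, b.2.2 x hx, a.2.2 x hx]⟩
  inv_mem' := fun {A} a => ⟨fun x y => A.injective (by simp [a.1]), fun x => by rw [← a.2.1]; simp,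
    fun x hx => A.injective (by simp [a.2.2 x hx])⟩

theorem fx_step (L : List W6) (a : W6) {n : ℕ}
    (e : (Finset.univ.filter fun x => q6 x = q6 a ∧ ∀ b ∈ L, q6 (x + b) = q6 (a + b)).card = n) :
    Nat.card (Fx L) ≤ n * Nat.card (Fx (a :: L)) := by
  have le : Fx (a :: L) ≤ Fx L := fun g h => ⟨h.1, h.2.1, fun b hb => h.2.2 b (List.mem_cons_of_mem _ hb)⟩
  have s : MulAction.stabilizer (Fx L) a = (Fx (a :: L)).subgroupOf (Fx L) := by
    ext g
    exact ⟨fun h => ⟨g.2.1, g.2.2.1, List.forall_mem_cons.2 ⟨h, g.2.2.2⟩⟩, fun h => h.2.2 a List.mem_cons_self⟩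
  rw [← (MulAction.stabilizer (Fx L) a).card_mul_index, MulAction.index_stabilizer, s,
    Nat.card_congr (subgroupOfEquivOfLe le).toEquiv, mul_comm, ← e, ← Set.ncard_coe_finset]
  refine Nat.mul_le_mul_right _ (Set.ncard_le_ncard ?_)
  rintro _ ⟨g, rfl⟩
  refine Finset.mem_coe.2 (Finset.mem_filter.2 ⟨Finset.mem_univ _, g.2.2.1 a, fun b hb => ?_⟩)
  rw [← g.2.2.1 (a + b), g.2.1, g.2.2.2 b hb]; rfl

theorem card_fx : Nat.card (Fx []) ≤ 51840 := by
  have c1 := fx_step [] (bi 0) (n := 36) (by decide +kernel)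
  have c2 := fx_step [bi 0] (bj 0) (n := 20) (by decide +kernel)
  have c3 := fx_step [bj 0, bi 0] (bi 1) (n := 6) (by decide +kernel)
  have c4 := fx_step [bi 1, bj 0, bi 0] (bj 1) (n := 2) (by decide +kernel)
  have c5 := fx_step [bj 1, bi 1, bj 0, bi 0] (bi 2) (n := 3) (by decide +kernel)
  have c6 := fx_step [bi 2, bj 1, bi 1, bj 0, bi 0] (bj 2) (n := 2) (by decide +kernel)
  have c7 : Fx [bj 2, bi 2, bj 1, bi 1, bj 0, bi 0] = ⊥ := eq_bot_iff.2 fun A ⟨a, _, c⟩ => Equiv.ext fun x => by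
    have n : ∀ n v, A (n • v) = n • A v := map_nsmul (AddMonoidHom.mk' A a)
    simp only [List.forall_mem_cons] at c
    rw [dec6 x]
    simp only [a, n, c, Equiv.Perm.one_apply]
  rw [c7, card_bot] at c6
  omega

theorem sq_range {X : Type*} [Group X] (hX : Nat.card X = 25920) {ρ : X →* Fx []} (i : Function.Injective ρ)
    {A : W6 → W6} (a : ∀ x y, A (x + y) = A x + A y) (b : ∀ x, q6 (A x) = q6 x) :
    ∃ k, ∀ x, (ρ k).1 x = A (A x) := by
  have hi : Function.Injective A := (injective_iff_map_eq_zero (AddMonoidHom.mk' A a)).2 fun x hx =>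
    (by decide +kernel : ∀ x : W6, (∀ y, q6 (x + y) = q6 y) → x = 0) x fun y => by
      rw [← b, a, show A x = 0 from hx, zero_add, b]
  let g : Fx [] := ⟨Equiv.ofBijective A (Finite.injective_iff_bijective.1 hi), a, b, by simp⟩
  have c := ρ.range.card_mul_index
  have c1 := card_fx
  have c2 : ρ.range.index ≠ 0 := index_ne_zero_of_finite
  rw [← Nat.card_congr (MonoidHom.ofInjective i).toEquiv, hX] at c
  obtain ⟨k, hk⟩ : g * g ∈ ρ.range := by
    rcases (by omega : ρ.range.index = 1 ∨ ρ.range.index = 2) with e | e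
    exacts [(index_eq_one.1 e).ge (mem_top _), mul_self_mem_of_index_two e g]
  exact ⟨k, fun x => by rw [hk]; rfl⟩

/-- the frame of the extraspecial group of order `2 ^ 7` -/
structure Fm {Y : Type*} [Group Y] (O : Subgroup Y) (t : O) (i j : Fin 3 → O) : Prop where
  t2 : t * t = 1
  t1 : t ≠ 1
  i2 : ∀ k, i k * i k = t
  j2 : ∀ k, j k * j k = t
  ij : ∀ k, i k * j k = j k * i k * t
  cm : ∀ k k', k ≠ k' → i k * i k' = i k' * i k ∧ i k * j k' = j k' * i k ∧ j k * j k' = j k' * j k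
  nrm : ∀ g : Y, ∃ A : W6 → W6,
    ∀ x, g * pw i j x * g⁻¹ = pw i j (A x) ∨ g * pw i j x * g⁻¹ = (pw i j (A x) * t :)
  all : ∀ A : W6 → W6, Un A → ∃ g : Y, ∀ x, g * pw i j x * g⁻¹ = pw i j (A x) ∨ g * pw i j x * g⁻¹ = (pw i j (A x) * t :)
  sq : ∀ A : W6 → W6, (∀ x y, A (x + y) = A x + A y) → (∀ x, q6 (A x) = q6 x) →
    ∃ g : Y, ∀ x, g * pw i j x * g⁻¹ = pw i j (A (A x)) ∨ g * pw i j x * g⁻¹ = (pw i j (A (A x)) * t :)

theorem exists_fm {Y : Type*} [Group Y] [Finite Y] {O : Subgroup Y} [O.Normal] (hO : IsExtraspecial 2 O)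
    (cO : Nat.card O = 2 ^ 7) (hC : centralizer O ≤ O) {F : Type*} [Field F] [Fintype F] (hF : Fintype.card F = 3)
    (e : Cm F →* Y ⧸ O) (ei : Function.Injective e) (cX : Nat.card (Y ⧸ O) = 25920) : ∃ t i j, Fm O t i j := by
  obtain ⟨t, h⟩ := H95.exists_ES_top hO
  obtain ⟨V, _, _, ⟨P⟩⟩ := h.exists_pres
  have hV : Nat.card V = 64 := by have := P.card_eq; omega
  let α := (P.autHom h).comp (MulAut.conjNormal : Y →* MulAut O)
  have kα : α.ker = O := by
    ext g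
    rw [← MonoidHom.comap_ker, P.ker_autHom h]
    refine ⟨fun ⟨y, hy⟩ => ?_, fun hg => ⟨⟨g, hg⟩, by ext; rfl⟩⟩
    refine (O.mul_mem_cancel_left (O.inv_mem y.2)).1 (hC fun x hx => ?_)
    have : (y : Y) * x * (y : Y)⁻¹ = g * x * g⁻¹ := congrArg Subtype.val (DFunLike.congr_fun hy (⟨x, hx⟩ : O))
    calc x * ((y : Y)⁻¹ * g) = (y : Y)⁻¹ * (y * x * (y : Y)⁻¹) * g := by group
      _ = (y : Y)⁻¹ * g * x := by rw [this]; group
  let γ := QuotientGroup.lift O α kα.ge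
  have γi : Function.Injective γ := (QuotientGroup.injective_lift_iff O α kα.ge).2 kα.symm
  let β := γ.comp e
  have βi : Function.Injective β := γi.comp ei
  have : CharP F 3 := charP_of_card_eq_prime hF
  have h3 : (3 : F) = 0 := CharP.cast_eq_zero F 3
  have bm : ∀ k k' v, β k (β k' v) = β (k * k') v := fun k k' v => (DFunLike.congr_fun (map_mul β k k') v).symm
  have cw : ∀ k v, β k (β (Cm.cz 2) v) = β (Cm.cz 2) (β k v) := fun k v => by rw [bm, bm, Cm.cz_comm]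
  have qγ : ∀ k v, P.q (γ k v) = P.q v := fun k v => by
    obtain ⟨g, rfl⟩ := QuotientGroup.mk_surjective k
    exact P.q_autHom h _ v
  have qβ : ∀ k v, P.q (β k v) = P.q v := fun k => qγ (e k)
  have r1 : Cm.cq 0 1 0 * Cm.cq 0 1 0 * Cm.cq (0 : F) 1 0 = 1 := by ext <;> simp [Cm.cq]; linear_combination h3
  have r2 : Cm.cz 2 * Cm.cz 2 * Cm.cz (2 : F) = 1 := by ext <;> simp [Cm.cz]; linear_combination 2 * h3
  have r3 : Cm.cq 0 1 0 * Cm.cq 0 0 1 = Cm.cz 2 * Cm.cq 0 0 1 * Cm.cq (0 : F) 1 0 := by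
    ext <;> simp [Cm.cq, Cm.cz]; ring
  have om : Om P.q (β (Cm.cz 2)) := ⟨P.nondeg_of_ES h, qβ _, fpf hV (a := β (Cm.cq 0 1 0)) (b := β (Cm.cq 0 0 1))
    (fun v => by rw [bm, bm, r1, map_one]; rfl) (fun v => by rw [bm, bm, r2, map_one]; rfl)
    (fun e => H62.Hay.two_ne_zero_of (F := F) (p := 3) (by norm_num)
      (Cm.cz_inj ((βi (e.trans (map_one β).symm)).trans Cm.cz_zero.symm)))
    (cw _) (cw _) fun v => by rw [bm, bm, bm, r3]⟩
  obtain ⟨c, co, cq⟩ := om.frame hV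
  choose i hi using fun k => P.surj (c (bi k))
  choose j hj using fun k => P.surj (c (bj k))
  have cp : ∀ x y, QuadraticMap.polar P.q (c x) (c y) = p6 x y := fun x y => by
    rw [QuadraticMap.polar, ← map_add, cq, cq, cq, p6]
  have πp : ∀ (g : O) n, P.π (g ^ n) = n • P.π g := fun g n => congrArg Multiplicative.toAdd (map_pow P.hom g n)
  have πw : ∀ x, P.π (pw i j x) = c x := fun x => by
    simp only [pw, P.π_mul, πp, hi, hj, ← map_nsmul, ← map_add, ← dec6]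
  let ρ : Y ⧸ O →* Fx [] := MonoidHom.mk' (fun k => ⟨(c.toEquiv.trans (γ k).toEquiv).trans c.symm.toEquiv,
    fun x y => by simp, fun x => by rw [← cq, ← cq, ← qγ k (c x)]; simp, by simp⟩) fun k k' =>
      Subtype.ext (Equiv.ext fun x => by simp)
  have hρ : ∀ k x, (ρ k).1 x = c.symm (γ k (c x)) := fun _ _ => rfl
  have ρi : Function.Injective ρ := fun k k' e' => γi (LinearEquiv.ext fun v => by
    simpa [hρ] using congrArg (fun A : Fx [] => A.1 (c.symm v)) e')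
  have act : ∀ (g : Y) x, g * pw i j x * g⁻¹ = pw i j ((ρ g).1 x) ∨
      g * pw i j x * g⁻¹ = (pw i j ((ρ g).1 x) * t :) := fun g x =>
    (P.eq_iff'.1 (show P.π (pw i j ((ρ g).1 x)) = P.π (MulAut.conjNormal g (pw i j x)) by
      rw [πw, hρ, c.apply_symm_apply, ← πw]; exact P.autHom_π h _ _)).imp (congrArg Subtype.val) (congrArg Subtype.val)
  refine ⟨t, i, j, P.zz, P.z_ne, fun k => ?_, fun k => ?_, fun k => ?_, fun k k' n => ?_,
    fun g => ⟨_, act g⟩, fun A hA => ?_, fun A a b => ?_⟩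
  · rw [P.sq, hi, cq, (by decide : ∀ k, q6 (bi k) = 1), H95.zp_one]
  · rw [P.sq, hj, cq, (by decide : ∀ k, q6 (bj k) = 1), H95.zp_one]
  · rw [P.comm, hi, hj, cp, (by decide : ∀ k, p6 (bi k) (bj k) = 1), H95.zp_one]
  · simp only [P.commute_iff, hi, hj, cp]
    revert k k'; decide
  · obtain ⟨k, rfl⟩ := onto (card_cm hF) (f := fun k => (ρ (e k)).1)
      (fun k k' e' => ei (ρi (Subtype.ext (Equiv.ext (congrFun e'))))) (fun k => ⟨(ρ (e k)).2.1, fun x => c.injective (by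
        rw [co, hρ, hρ, c.apply_symm_apply, c.apply_symm_apply, co]; exact cw k _), (ρ (e k)).2.2.1⟩) hA
    obtain ⟨g, hg⟩ := QuotientGroup.mk_surjective (e k)
    exact ⟨g, by simpa only [hg] using act g⟩
  · obtain ⟨k, hk⟩ := sq_range cX ρi a b
    obtain ⟨g, rfl⟩ := QuotientGroup.mk_surjective k
    exact ⟨g, by simpa only [hk] using act g⟩

theorem pr_top {M : Type*} [Group M] [Finite M] {z : M} (z1 : z ≠ 1) (zc : ∀ g, g * z = z * g) {Q : Subgroup M}
    [nQ : Q.Normal] (hC : centralizer Q ≤ Q) (hQ : IsExtraspecial 3 Q) (cQ : Nat.card Q = 3 ^ 9)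
    (h3 : ∀ x ∈ Q, x ^ 3 = 1) {O : Subgroup (M ⧸ Q)} [O.Normal] (hO : IsExtraspecial 2 O) (cO : Nat.card O = 2 ^ 7)
    (hC' : centralizer O ≤ O) {F : Type*} [Field F] [Fintype F] (hF : Fintype.card F = 3)
    (e : Cm F →* (M ⧸ Q) ⧸ O) (ei : Function.Injective e) (cX : Nat.card ((M ⧸ Q) ⧸ O) = 25920) :
    ∃ t i j, PB z Q t i j := by
  obtain ⟨t, i, j, h⟩ := exists_fm hO cO hC' hF e ei cX
  obtain ⟨s, si, hs⟩ := exists_sec h3 hO.1.1
  have zQ : z ∈ Q := hC fun q _ => zc q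
  obtain ⟨z3, cm, cq⟩ := exsp hQ zQ z1 fun q _ => zc q
  have key : ∀ g : M, ∃ n ∈ Q, ∀ A : W6 → W6, (∀ x, (g : M ⧸ Q) * pw i j x * (g : M ⧸ Q)⁻¹ = pw i j (A x) ∨
      (g : M ⧸ Q) * pw i j x * (g : M ⧸ Q)⁻¹ = (pw i j (A x) * t :)) → ∀ x,
      n * g * pw (fun k => s (i k)) (fun k => s (j k)) x * (n * g)⁻¹ = pw (fun k => s (i k)) (fun k => s (j k)) (A x) ∨
      n * g * pw (fun k => s (i k)) (fun k => s (j k)) x * (n * g)⁻¹ =
        pw (fun k => s (i k)) (fun k => s (j k)) (A x) * s t := fun g => by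
    obtain ⟨n, hn, a⟩ := hs g
    rw [QuotientGroup.mk_mul, (QuotientGroup.eq_one_iff n).2 hn, one_mul] at a
    refine ⟨n, hn, fun A hA x => ?_⟩
    simp only [← map_pw, ← map_mul]
    exact (hA x).imp (a _ _) (a _ _)
  refine ⟨s t, fun k => s (i k), fun k => s (j k), z3, z1, zQ, cQ, h3, fun x _ => zc x, cm,
    fun g _ x hx => nQ.conj_mem x hx g, fun g _ a => cq g (hC fun q hq => (a q hq).symm) a, ?_, ?_, fun _ => zc _,
    fun _ => zc _, fun k => ?_, fun k => ?_, fun k => ?_, fun k k' n => ?_, fun g _ => ?_, fun A a1 a2 a3 => ?_,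
    fun A a1 a2 => ?_, ?_⟩
  · rw [← map_mul, h.t2, map_one]
  · exact fun e => h.t1 (si (e.trans s.map_one.symm))
  · rw [← map_mul, h.i2]
  · rw [← map_mul, h.j2]
  · rw [← map_mul, h.ij, map_mul, map_mul]
  · simp only [← map_mul, h.cm k k' n, and_self]
  · obtain ⟨n, hn, a⟩ := key g
    obtain ⟨A, a2⟩ := h.nrm g
    exact ⟨n, hn, A, a A a2⟩
  · obtain ⟨g, hg⟩ := h.all A ⟨a1, a2, a3⟩
    obtain ⟨g, rfl⟩ := QuotientGroup.mk_surjective g
    obtain ⟨n, -, a⟩ := key g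
    exact ⟨_, zc _, a A hg⟩
  · obtain ⟨g, hg⟩ := h.sq A a1 a2
    obtain ⟨g, rfl⟩ := QuotientGroup.mk_surjective g
    obtain ⟨n, -, a⟩ := key g
    exact ⟨_, zc _, a (fun x => A (A x)) hg⟩
  · rw [(eq_top_iff' _).2 fun g => mem_centralizer_singleton_iff.2 (zc g), card_top,
      card_eq_card_quotient_mul_card_subgroup Q, card_eq_card_quotient_mul_card_subgroup O, cQ, cO, cX]
    norm_num

theorem up {X : Type*} [Group X] {H : Subgroup X} {z t : H} {Q : Subgroup H} {i j : Fin 3 → H} (h : PB z Q t i j)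
    (hH : ∀ g : X, g * z = z * g → g ∈ H) : PB (z : X) (Q.map H.subtype) t (fun k => i k) fun k => j k := by
  have w : ∀ x, pw (fun k => (i k : X)) (fun k => j k) x = (pw i j x :) := fun x => (map_pw H.subtype i j x).symm
  refine ⟨congrArg Subtype.val h.z3, fun e => h.z1 (Subtype.ext e), mem_map_of_mem _ h.zQ,
    (card_map_of_injective H.subtype_injective).trans h.cQ, ?_, ?_, ?_, fun g hg => ?_,
    fun g hg e => up_zp.2 (h.CQ ⟨g, hH g hg⟩ (Subtype.ext hg) fun x hx => Subtype.ext (e x (mem_map_of_mem _ hx))),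
    congrArg Subtype.val h.t2, fun e => h.t1 (Subtype.ext e), fun k => congrArg Subtype.val (h.iz k),
    fun k => congrArg Subtype.val (h.jz k), fun k => congrArg Subtype.val (h.i2 k),
    fun k => congrArg Subtype.val (h.j2 k), fun k => congrArg Subtype.val (h.ij k), fun k k' n =>
      (h.cm k k' n).imp (congrArg Subtype.val) (And.imp (congrArg Subtype.val) (congrArg Subtype.val)),
    fun g hg => ?_, fun A a1 a2 a3 => ?_, fun A a1 a2 => ?_, ?_⟩
  · rintro _ ⟨x, hx, rfl⟩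
    exact congrArg Subtype.val (h.Q3 x hx)
  · rintro _ ⟨x, hx, rfl⟩
    exact congrArg Subtype.val (h.Qz x hx)
  · rintro _ ⟨x, hx, rfl⟩ _ ⟨y, hy, rfl⟩
    exact up_zp.2 (h.Qc x hx y hy)
  · rintro _ ⟨x, hx, rfl⟩
    exact mem_map_of_mem _ (h.nQ ⟨g, hH g hg⟩ (Subtype.ext hg) x hx)
  · obtain ⟨n, hn, A, a2⟩ := h.nrm ⟨g, hH g hg⟩ (Subtype.ext hg)
    refine ⟨n, mem_map_of_mem _ hn, A, fun x => ?_⟩
    rw [w, w]
    exact (a2 x).imp (congrArg Subtype.val) (congrArg Subtype.val)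
  · obtain ⟨g, hg, a⟩ := h.all A a1 a2 a3
    refine ⟨g, congrArg Subtype.val hg, fun x => ?_⟩
    rw [w, w]
    exact (a x).imp (congrArg Subtype.val) (congrArg Subtype.val)
  · obtain ⟨g, hg, a⟩ := h.sq A a1 a2
    refine ⟨g, congrArg Subtype.val hg, fun x => ?_⟩
    rw [w, w]
    exact (a x).imp (congrArg Subtype.val) (congrArg Subtype.val)
  · rw [← h.cM, ← card_map_of_injective H.subtype_injective]
    congr 2
    ext g
    simp only [mem_map, mem_centralizer_singleton_iff]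
    exact ⟨fun e => ⟨⟨g, hH g e⟩, Subtype.ext e, rfl⟩, fun ⟨x, e, e'⟩ => e' ▸ congrArg Subtype.val e⟩

end Pra

variable {G : Type*} [Group G] [Finite G]

theorem prb (Z : Subgroup G) (hZ : Nat.card ↥Z = 3) (hQ : Cfsg.IsExtraspecial 3 ↥(Cfsg.generalizedFittingSubgroup ↥(Subgroup.centralizer (Z : Set G)))) (hQcard : Nat.card ↥(Cfsg.generalizedFittingSubgroup ↥(Subgroup.centralizer (Z : Set G))) = 3 ^ 9) [hQn : (Cfsg.generalizedFittingSubgroup ↥(Subgroup.centralizer (Z : Set G))).Normal] (hexp : ∀ x ∈ Cfsg.generalizedFittingSubgroup ↥(Subgroup.centralizer (Z : Set G)), x ^ 3 = 1) (hFR : Cfsg.generalizedFittingSubgroup (↥(Subgroup.centralizer (Z : Set G)) ⧸ Cfsg.generalizedFittingSubgroup ↥(Subgroup.centralizer (Z : Set G))) = Cfsg.pCore 2 (↥(Subgroup.centralizer (Z : Set G)) ⧸ Cfsg.generalizedFittingSubgroup ↥(Subgroup.centralizer (Z : Set G)))) (hR : Cfsg.IsExtraspecial 2 ↥(Cfsg.pCore 2 (↥(Subgroup.centralizer (Z : Set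 G)) ⧸ Cfsg.generalizedFittingSubgroup ↥(Subgroup.centralizer (Z : Set G))))) (hRcard : Nat.card ↥(Cfsg.pCore 2 (↥(Subgroup.centralizer (Z : Set G)) ⧸ Cfsg.generalizedFittingSubgroup ↥(Subgroup.centralizer (Z : Set G)))) = 2 ^ 7) [hRn : (Cfsg.pCore 2 (↥(Subgroup.centralizer (Z : Set G)) ⧸ Cfsg.generalizedFittingSubgroup ↥(Subgroup.centralizer (Z : Set G)))).Normal] (hTop : ∃ (F : Type) (_ : Field F) (_ : Fintype F), Fintype.card F = 3 ∧ Nonempty (((↥(Subgroup.centralizer (Z : Set G)) ⧸ Cfsg.generalizedFittingSubgroup ↥(Subgroup.centralizer (Z : Set G))) ⧸ Cfsg.pCore 2 (↥(Subgroup.centralizer (Z : Set G)) ⧸ Cfsg.generalizedFittingSubgroup ↥(Subgroup.centralizer (Z : Set G)))) ≃* Cfsg.PSp 2 F)) :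
    ∃ z Q t i j, PB z Q t i j ∧ Z = zpowers z := by
  obtain ⟨F, _, _, hF, ⟨e⟩⟩ := hTop
  obtain ⟨z, z1, rfl⟩ := exists_z hZ
  have : CharP F 3 := charP_of_card_eq_prime hF
  have cP : Nat.card (PSp 2 F) = 25920 := by
    have h1 := Cfsg.Agent.S0245.result (F := F) hF 2
    have h2 := Cfsg.Agent.S0246.result (F := F) hF 2 (by norm_num)
    have h3 := card_eq_card_quotient_mul_card_subgroup (center (Matrix.symplecticGroup (Fin 2) F))
    rw [h2, h1.trans (by decide : _ = 51840), show Nat.gcd 2 (3 - 1) = 2 from rfl] at h3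
    change Nat.card (_ ⧸ center (Matrix.symplecticGroup (Fin 2) F)) = _
    omega
  have : Finite (PSp 2 F) := Nat.finite_of_card_ne_zero (by omega)
  obtain ⟨P⟩ : Nonempty (Sylow 3 (PSp 2 F)) := inferInstance
  have : Nontrivial P := (nontrivial_iff_ne_bot _).2 (P.ne_bot_of_dvd_card (by rw [cP]; norm_num))
  have := P.2.center_nontrivial
  obtain ⟨⟨⟨x, xP⟩, xc⟩, x1⟩ := exists_ne (1 : center P)
  have c : ∀ y ∈ (P : Subgroup (PSp 2 F)), y * x = x * y := fun y hy =>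
    congrArg Subtype.val (mem_center_iff.1 xc ⟨y, hy⟩)
  obtain ⟨e'⟩ := H62.Hay.exists_equiv (p := 3) (by norm_num) x (fun e => x1 (Subtype.ext (Subtype.ext e))) P xP c
  have m : ∀ g : G, g ∈ centralizer (zpowers z : Set G) ↔ g * z = z * g := fun g => by
    rw [cent_zp, mem_centralizer_singleton_iff]
  obtain ⟨t, i, j, h⟩ := Pra.pr_top (z := ⟨z, (m z).2 rfl⟩) (fun e => z1 (congrArg Subtype.val e))
    (fun g => Subtype.ext ((m g).1 g.2)) H23.centralizer_fStar_le hQ hQcard hexp hR hRcard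
    (hFR ▸ H23.centralizer_fStar_le) hF
    (e.symm.toMonoidHom.comp ((centralizer {x}).subtype.comp e'.toMonoidHom))
    (e.symm.injective.comp (Subtype.val_injective.comp e'.injective)) ((Nat.card_congr e.toEquiv).trans cP)
  exact ⟨z, _, _, _, _, Pra.up h fun g => (m g).2, rfl⟩

end H7.B3
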