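import Cfsg.Agent.Lib.F3L.Prb
import Cfsg.Agent.Lib.B3L.Def

/-! Coordinates on the extraspecial group `3 ^ (1 + 8)`. -/

set_option autoImplicit false

namespace H7.B3

open Subgroup Cfsg H7.F3
open H7.F3.Prb (Iv Co PP cube)
open H87.U6 (F3 f3_cases pw_add pw_neg pw_inj mem_zp cm_cj)
open H7.F3.Gam

namespace Prb

universe u

variable {G : Type u} [Group G] {z t : G} {Q : Subgroup G} {i j : Fin 3 → G}

theorem tz (h : PB z Q t i j) : t * z = z * t := by
  rw [← h.i2 0, mul_assoc, h.iz, ← mul_assoc, h.iz, mul_assoc]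

theorem sq (h : PB z Q t i j) {x : G} (hx : x ∈ Q) : x * x = x⁻¹ :=
  eq_inv_of_mul_eq_one_left (by rw [← h.Q3 x hx, pow_succ, pow_two])

theorem zinj (h : PB z Q t i j) {a b : F3} (e : z ^ a.val = z ^ b.val) : a = b :=
  add_neg_eq_zero.1 (pw_inj h.z3 h.z1 (by rw [pw_add h.z3, pw_neg h.z3, e, mul_inv_cancel]))

theorem uniq (h : PB z Q t i j) {a b : G} (aQ : a ∈ Q) (ha : t * a * t⁻¹ = a⁻¹) (hb : t * b * t⁻¹ = b⁻¹)
    (e : a⁻¹ * b ∈ zpowers z) : a = b := by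
  obtain ⟨k, e⟩ := (mem_zp h.z3).1 e
  obtain rfl : b = a * z ^ k.val := by rw [← e]; group
  rw [← conj_mul, ha, cjz (tz h), cz (h.Qz a aQ), mul_inv_rev, mul_right_inj, ← pw_neg h.z3] at hb
  rw [(by decide : ∀ k : F3, k = -k → k = 0) k (zinj h hb), ZMod.val_zero, pow_zero, mul_one]

theorem baer (h : PB z Q t i j) : ∃ (V : Type u) (_ : AddCommGroup V) (L : V → G), Function.Injective L ∧
    (∀ u v, L (u + v) = (L u)⁻¹ * L v * (L u)⁻¹) ∧ (∀ v, L (-v) = (L v)⁻¹) ∧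
    ∀ q, (∃ v, L v = q) ↔ q ∈ Q ∧ t * q * t⁻¹ = q⁻¹ := by
  letI : Add (Iv Q t) := ⟨fun u v => ⟨u.1⁻¹ * v.1 * u.1⁻¹, mul_mem (mul_mem (inv_mem u.2.1) v.2.1) (inv_mem u.2.1), by
    rw [← conj_mul, ← conj_mul, ← conj_inv, u.2.2, v.2.2]; group⟩⟩
  letI : Zero (Iv Q t) := ⟨⟨1, one_mem _, by group⟩⟩
  letI : Neg (Iv Q t) := ⟨fun u => ⟨u.1⁻¹, inv_mem u.2.1, by rw [← conj_inv, u.2.2]⟩⟩
  let π : Iv Q t → Abelianization Q := fun u => Abelianization.of ⟨u.1, u.2.1⟩
  have pa : ∀ u v, π (u + v) = π u * π v := fun u v => by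
    have e : π u * π u = (π u)⁻¹ := by rw [← map_mul, ← map_inv]; exact congrArg _ (Subtype.ext (sq h u.2.1))
    rw [show π (u + v) = (π u)⁻¹ * π v * (π u)⁻¹ by rw [← map_inv, ← map_mul, ← map_mul]; rfl, mul_right_comm,
      ← mul_inv, e, inv_inv]
  have le : commutator Q ≤ (zpowers z).subgroupOf Q := commutator_le.2 fun x _ y _ => h.Qc x x.2 y y.2
  have pi : ∀ u v, π u = π v → u = v := fun u v e =>
    Subtype.ext (uniq h u.2.1 u.2.2 v.2.2 (le (QuotientGroup.eq.1 e)))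
  letI : AddGroup (Iv Q t) := AddGroup.ofLeftAxioms (fun a b c => pi _ _ (by rw [pa, pa, pa, pa, mul_assoc]))
    (fun a => Subtype.ext (show 1⁻¹ * a.1 * 1⁻¹ = a.1 by group))
    (fun a => Subtype.ext (show a.1⁻¹⁻¹ * a.1 * a.1⁻¹⁻¹ = 1 by rw [inv_inv, sq h a.2.1, inv_mul_cancel]))
  exact ⟨Iv Q t, { add_comm := fun a b => pi _ _ (by rw [pa, pa, mul_comm]) }, Subtype.val, Subtype.val_injective,
    fun _ _ => rfl, fun _ => rfl, fun q => ⟨by rintro ⟨v, rfl⟩; exact v.2, fun h => ⟨⟨q, h⟩, rfl⟩⟩⟩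

theorem coord (h : PB z Q t i j) : ∃ l, Co Q t i j l := by
  obtain ⟨V, _, L, inj, ad, ng, rg⟩ := baer h
  have m := fun v => (rg _).1 ⟨v, rfl⟩
  have ac : ∀ g, g * z = z * g → g * g = t → ∃ ρ : V →+ V, ∀ v, L (ρ v) = g * L v * g⁻¹ := fun g gz gt => by
    choose ρ e using fun v => (rg (g * L v * g⁻¹)).2 ⟨h.nQ g gz _ (m v).1, by
      rw [conj_inv, ← (m v).2, ← gt]; group⟩
    exact ⟨AddMonoidHom.mk' ρ fun u v => inj (by rw [ad, e, e, e, ad]; group), e⟩
  choose I hI using fun k => ac _ (h.iz k) (h.i2 k)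
  choose J hJ using fun k => ac _ (h.jz k) (h.j2 k)
  have cm : ∀ {a b : G} (x : G), a * b = b * a → a * (b * x * b⁻¹) * a⁻¹ = b * (a * x * a⁻¹) * b⁻¹ := fun {a b} x e => by
    rw [show a * (b * x * b⁻¹) * a⁻¹ = a * b * x * (a * b)⁻¹ by group, e]; group
  obtain ⟨v, v0⟩ : ∃ v : V, v ≠ 0 := by
    by_contra k
    push Not at k
    have ti : t⁻¹ = t := inv_eq_of_mul_eq_one_right h.t2
    have L0 : L 0 = 1 := by
      have := ng 0
      rw [neg_zero, ← sq h (m 0).1] at this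
      exact left_eq_mul.1 this
    obtain ⟨a, e⟩ := (mem_zp h.z3).1 (h.CQ t (tz h) fun x hx => by
      obtain ⟨v, e⟩ := (rg (t * x * t⁻¹ * x⁻¹)).2 ⟨mul_mem (h.nQ t (tz h) x hx) (inv_mem hx), by
        simp only [← mul_assoc, h.t2, mul_inv_rev, inv_inv, ti, one_mul]⟩
      rw [k v, L0, eq_comm, mul_inv_eq_one] at e
      exact cm_cj.2 e)
    refine h.t1 ?_
    have : t ^ 3 = 1 := by rw [e, ← pow_mul, mul_comm, pow_mul, h.z3, one_pow]
    rwa [pow_succ, pow_two, h.t2, one_mul] at this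
  obtain ⟨e, ea, ei, ep⟩ := cube (fun v => by rw [inj (show L (v + v) = L (-v) by rw [ad, ng]; group), neg_add_cancel])
    (I := I) (J := J) (fun k v => inj (by rw [hI, hI, ng, ← (m v).2, ← h.i2 k]; group))
    (fun k v => inj (by rw [hJ, hJ, ng, ← (m v).2, ← h.j2 k]; group))
    (fun k v => inj (by
      rw [ng, hI, hJ, hJ, hI, show i k * (j k * L v * (j k)⁻¹) * (i k)⁻¹ = i k * j k * L v * (i k * j k)⁻¹ by group,
        h.ij, show j k * i k * t * L v * (j k * i k * t)⁻¹ = j k * i k * (t * L v * t⁻¹) * (j k * i k)⁻¹ by group,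
        (m v).2]
      group))
    (fun k k' n v => inj (by rw [hI, hI, hI, hI, cm _ (h.cm k k' n).1]))
    (fun k k' n v => inj (by rw [hI, hJ, hJ, hI, cm _ (h.cm k' k n.symm).2.1]))
    (fun k k' n v => inj (by rw [hJ, hJ, hJ, hJ, cm _ (h.cm k k' n).2.2])) v0
  have hP : ∀ k (x : B2) v, L (PP (I k) (J k) x v) = i k ^ x.1.val * j k ^ x.2.val * L v * (i k ^ x.1.val * j k ^ x.2.val)⁻¹ := by
    rintro k ⟨a, b⟩ v
    rcases z2 a with rfl | rfl <;> rcases z2 b with rfl | rfl <;>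
      simp only [PP, if_true, one_ne_zero, if_false, hI, hJ, ZMod.val_zero, ZMod.val_one] <;> group
  exact ⟨fun v => L (e v), fun v => (m _).1, fun v => (m _).2, fun u v => by rw [ea, ad],
    fun v => by rw [← ng]; exact congrArg L (map_neg (AddMonoidHom.mk' e ea) v), inj.comp ei,
    fun x v => by rw [ep, hP, hP, hP, pw]; group⟩

variable {l : V8 → G}

theorem pwz (h : PB z Q t i j) (x : W6) : pw i j x * z = z * pw i j x :=
  have a : ∀ k n, Commute (i k ^ n) z := fun k n => Commute.pow_left (h.iz k) n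
  have b : ∀ k n, Commute (j k ^ n) z := fun k n => Commute.pow_left (h.jz k) n
  (((a _ _).mul_left (b _ _)).mul_left ((a _ _).mul_left (b _ _))).mul_left ((a _ _).mul_left (b _ _))

theorem lz0 (h : PB z Q t i j) (c : Co Q t i j l) {v : V8} (e : l v ∈ zpowers z) : v = 0 := by
  have k : ∀ v, l v ∈ zpowers z → 1 = l v := fun v e => uniq h (one_mem _) (by group) (c.tl v) (by simpa using e)
  have : l 0 = 1 := by
    have := c.neg 0
    rw [neg_zero, ← sq h (c.mem 0)] at this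
    exact left_eq_mul.1 this
  exact c.inj ((k v e).symm.trans this.symm)

variable [Finite G]

theorem onto (h : PB z Q t i j) (c : Co Q t i j l) {q : G} (hq : q ∈ Q) : ∃ v, ∃ k : F3, q = l v * z ^ k.val := by
  have : Function.Bijective fun p : V8 × F3 => (⟨l p.1 * z ^ p.2.val, mul_mem (c.mem _) (pow_mem h.zQ _)⟩ : Q) := by
    refine (Nat.bijective_iff_injective_and_card _).2 ⟨fun p p' e => ?_, by
      rw [Nat.card_prod, card_V8, h.cQ, Nat.card_zmod]; rfl⟩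
    have e : l p.1 * z ^ p.2.val = l p'.1 * z ^ p'.2.val := congrArg Subtype.val e
    have k := uniq h (c.mem p.1) (c.tl _) (c.tl p'.1) (by
      rw [show (l p.1)⁻¹ * l p'.1 = z ^ p.2.val * (z ^ p'.2.val)⁻¹ by
        rw [inv_mul_eq_iff_eq_mul, ← mul_assoc, e, mul_inv_cancel_right]]
      exact mul_mem (pow_mem (mem_zpowers z) _) (inv_mem (pow_mem (mem_zpowers z) _)))
    exact Prod.ext (c.inj k) (zinj h (by rwa [k, mul_right_inj] at e))
  obtain ⟨p, e⟩ := this.2 ⟨q, hq⟩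
  exact ⟨p.1, p.2, (congrArg Subtype.val e).symm⟩

theorem cQ (h : PB z Q t i j) (c : Co Q t i j l) (g : G) (gz : g * z = z * g) (e : ∀ v, g * l v = l v * g) :
    g ∈ zpowers z := h.CQ g gz fun x hx => by
  obtain ⟨v, k, rfl⟩ := onto h c hx
  rw [← mul_assoc, e, mul_assoc, cz gz, mul_assoc]

theorem form (h : PB z Q t i j) (c : Co Q t i j l) : (∀ u v, l u * l v = l (u + v) * z ^ (b8 u v).val) ∨
    ∀ u v, l u * l v = l (u + v) * z⁻¹ ^ (b8 u v).val := by
  have lz : ∀ v n, l v * z ^ n = z ^ n * l v := fun v => cz (h.Qz _ (c.mem v))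
  choose β e using fun u v => (mem_zp h.z3).1 (show (l (u + v))⁻¹ * (l u * l v) ∈ zpowers z by
    have := h.Qc _ (c.mem u) _ (inv_mem (c.mem v))
    rwa [← sq h (c.mem u), show l u * (l v)⁻¹ * (l u * l u) * (l v)⁻¹⁻¹ =
      ((l u)⁻¹ * l v * (l u)⁻¹)⁻¹ * (l u * l v) by group, ← c.add] at this)
  simp only [inv_mul_eq_iff_eq_mul] at e
  have sk : ∀ u v, β v u = -β u v := fun u v => by
    have k := congrArg (fun x => (t * x * t⁻¹)⁻¹) (e u v)
    simp only [← conj_mul, c.tl, cjz (tz h), mul_inv_rev, inv_inv] at k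
    rw [e, add_comm, ← pw_neg h.z3, ← lz, mul_right_inj] at k
    exact zinj h k
  have co : ∀ u v w, β (u + v) w + β u v = β u (v + w) + β v w := fun u v w => by
    have k := mul_assoc (l u) (l v) (l w)
    rw [e u v, e v w, mul_assoc, ← lz, ← mul_assoc, ← mul_assoc, e, e, add_assoc, mul_assoc, mul_assoc,
      mul_right_inj, ← pw_add h.z3, ← pw_add h.z3] at k
    exact zinj h k
  have al : ∀ u v w, β (u + v) w = β u w + β v w := fun u v w => by
    have c1 := co u v w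
    have c2 := co v w u
    have c3 := co w u v
    rw [sk (v + w) u] at c1
    rw [sk (w + u) v] at c2
    rw [sk (u + v) w] at c3
    rw [sk w u]
    linear_combination 2 * (c1 - c2 + c3) - (β (u + v) w - β v w + β w u) * three
  have iv : ∀ x u v, β (pa x u) (pa x v) = β u v := fun x u v => by
    have k := congrArg (fun y => pw i j x * y * (pw i j x)⁻¹) (e u v)
    simp only [← conj_mul, c.act, cjz (pwz h x)] at k
    rw [e, pa_add, mul_right_inj] at k
    exact zinj h k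
  choose φ hφ using fun u => sy8.inner (β u) fun v w => by rw [sk, al, sk u, sk u, neg_add, neg_neg, neg_neg]
  obtain ⟨a, ha⟩ := schur (φ := φ) (fun u v => sub_eq_zero.1 (sy8.nd _ fun w => by
      rw [sy8.sub_l, sy8.add_l]; linear_combination hφ (u + v) w - hφ u w - hφ v w - al u v w))
    fun x hx u => sub_eq_zero.1 (sy8.nd _ fun w => by
      obtain ⟨w, rfl⟩ := pa_surj x w
      rw [sy8.sub_l, b8_pa hx]; linear_combination hφ (pa x u) (pa x w) - hφ u w - iv x u w)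
  have k : ∀ u v, β u v = -a * b8 u v := fun u v => by
    rw [hφ, ha]; simp only [b8, b4, b2, Prod.smul_fst, Prod.smul_snd, smul_eq_mul]; ring
  rcases f3_cases a with rfl | rfl | rfl
  · refine absurd (lz0 h c (cQ h c (l e0) (h.Qz _ (c.mem _)) fun v => ?_)) (by decide)
    rw [e, e, k, k, add_comm, neg_zero, zero_mul, zero_mul]
  · exact .inr fun u v => by rw [e, k, neg_one_mul, pw_neg h.z3, inv_pow]
  · exact .inl fun u v => by rw [e, k, show -(2 : F3) = 1 from rfl, one_mul]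

omit [Finite G] in
theorem pr_inv (h : PB z Q t i j) : PB z⁻¹ Q t i j :=
  have k : ∀ g, g * z⁻¹ = z⁻¹ * g ↔ g * z = z * g := fun _ => Commute.inv_right_iff
  { h with
    z3 := by rw [inv_pow, h.z3, inv_one]
    z1 := inv_ne_one.2 h.z1
    zQ := inv_mem h.zQ
    Qz := fun x hx => (k x).2 (h.Qz x hx)
    Qc := by rw [zpowers_inv]; exact h.Qc
    nQ := fun g hg => h.nQ g ((k g).1 hg)
    CQ := fun g hg => by rw [zpowers_inv]; exact h.CQ g ((k g).1 hg)
    iz := fun n => (k _).2 (h.iz n)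
    jz := fun n => (k _).2 (h.jz n)
    nrm := fun g hg => h.nrm g ((k g).1 hg)
    all := fun A a b c => let ⟨g, e, f⟩ := h.all A a b c; ⟨g, (k g).2 e, f⟩
    sq := fun A a b => let ⟨g, e, f⟩ := h.sq A a b; ⟨g, (k g).2 e, f⟩
    cM := by
      rw [← h.cM]
      congr 2
      ext g
      rw [mem_centralizer_singleton_iff, mem_centralizer_singleton_iff, k] }

theorem fin (h : PB z Q t i j) (c : Co Q t i j l) (e : ∀ u v, l u * l v = l (u + v) * z ^ (b8 u v).val) :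
    B8 z l t := by
  have a : A0 b8 z l t := ⟨sy8, h.z3, h.z1, fun v => h.Qz _ (c.mem v), e, fun v => lz0 h c,
    fun g hg v => onto h c (h.nQ g hg _ (c.mem v)), cQ h c, h.t2, tz h, fun v => by rw [c.tl, c.neg]⟩
  have p : ∀ x, Ac z l (pw i j x) (pa x) := fun x => ⟨pwz h x, fun v => ⟨0, by rw [c.act, q0]⟩⟩
  have nm : ∀ {g φ} {A : W6 → W6}, Ac z l g φ →
      (∀ x, g * pw i j x * g⁻¹ = pw i j (A x) ∨ g * pw i j x * g⁻¹ = pw i j (A x) * t) → Nb φ A :=
    fun {g φ A} b k => ⟨a.ac_add b, fun _ _ => a.ac_inj b, fun x => (k x).imp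
      (fun k => a.ac_uniq (a.ac_mul b (p x)) (by rw [mul_inv_eq_iff_eq_mul.1 k]; exact a.ac_mul (p _) b))
      fun k v => (a.ac_uniq (a.ac_mul b (p x)) (φ' := fun v => pa (A x) (-φ v)) (by
        rw [mul_inv_eq_iff_eq_mul.1 k]; exact (a.ac_mul (a.ac_mul (p _) a.ex_t.ac) b :)) v).trans (pa_neg _ _)⟩
  refine ⟨a, fun g hg => ?_, fun φ A n => ?_, fun φ A n => ?_, h.cM⟩
  · obtain ⟨n, nQ, A, k⟩ := h.nrm g hg
    obtain ⟨φ, b⟩ := a.exists_ac hg
    obtain ⟨v, m, rfl⟩ := onto h c nQ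
    exact ⟨φ, A, nm (a.ac_mul (a.ac_q v m) b :) k, b⟩
  · obtain ⟨g, hg, k⟩ := h.all A n.A_add n.om n.A_q6
    obtain ⟨ψ, b⟩ := a.exists_ac hg
    obtain ⟨x, f | f⟩ := (nb n).div3 (nm b k)
    · exact ⟨_, (a.ac_mul b (p x)).congr fun v => (f v).symm⟩
    · exact ⟨_, (a.ac_mul b (a.ac_mul a.ex_t.ac (p x))).congr fun v => (f v).symm⟩
  · obtain ⟨g, hg, k⟩ := h.sq A n.A_add n.A_q6
    obtain ⟨ψ, b⟩ := a.exists_ac hg
    obtain ⟨x, f | f⟩ := (n.mul n).div3 (nm b k)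
    · exact ⟨_, (a.ac_mul b (p x)).congr fun v => (f v).symm⟩
    · exact ⟨_, (a.ac_mul b (a.ac_mul a.ex_t.ac (p x))).congr fun v => (f v).symm⟩

end Prb

variable {G : Type*} [Group G] [Finite G]

theorem PB.b8 {z t : G} {Q : Subgroup G} {i j : Fin 3 → G} (h : PB z Q t i j) :
    ∃ z' l, B8 z' l t ∧ zpowers z' = zpowers z := by
  obtain ⟨l, c⟩ := Prb.coord h
  rcases Prb.form h c with e | e
  exacts [⟨z, l, Prb.fin h c e, rfl⟩, ⟨z⁻¹, l, Prb.fin (Prb.pr_inv h) c e, zpowers_inv⟩]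

end H7.B3
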