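import Cfsg.Agent.Lib.B3L.Ba
import Cfsg.Agent.Lib.F3L.Tw8

/-! A conjugate of `z` in `Q` and the large 3-subgroup of the centralizer of the lift of `sw`. -/

set_option autoImplicit false

namespace H7.B3

open Subgroup Cfsg H7.F3 H7.F3.Tw
open H87.U6 (F3 f3_cases pw_zero pw_one pw_two mem_zp cm_cj)

variable {G : Type*} [Group G] [Finite G]

/-- symmetry -/
theorem zQB {z y t t' : G} {l l' : V8 → G} (h : A0 b8 z l t) (h' : B8 y l' t') (y1 : y ∈ Qs z l) (y2 : y ∉ zpowers z) :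
    z ∈ Qs y l' := by
  by_contra hz
  have c1 := h.card_cent y1 y2
  have c2 := h'.idx27 (T := Qs z l ⊓ centralizer {y}) (fun x hx => h.Q3 hx.1)
    fun x hx => mem_centralizer_singleton_iff.1 hx.2
  have c3 := h.card_bar' (B := Qs z l ⊓ centralizer {y} ⊓ Qs y l') fun e => hz e.2
  have c4 := iso81 h (B := Qs z l ⊓ centralizer {y} ⊓ Qs y l') fun a ha b hb =>
    comm_of (zp_inf h.z3 hz (h.comm_zp ha.1.1 hb.1.1)
      (mul_mem (mul_mem (mul_mem ha.2 hb.2) (inv_mem ha.2)) (inv_mem hb.2)))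
  rw [inf_eq_left.2 (inf_le_left.trans inf_le_left)] at c3
  rw [card_V8] at c1
  omega

theorem B8.two {z t : G} {l : V8 → G} (h : B8 z l t) {g : G} (h1 : g * z * g⁻¹ ∈ Qs z l)
    (h2 : g * z * g⁻¹ ∉ zpowers z) : ∃ l' t' d y, B8 z l' t' ∧ Ex z l' t' d sw ∧ d * d = 1 ∧ y ∈ Qs z l' ∧
      y ∉ zpowers z ∧ ∃ T : Subgroup G, IsPGroup 3 T ∧ 3 ^ 9 ≤ Nat.card T ∧ y ∈ T ∧
        ∀ x ∈ T, x * d = d * x ∧ x * y = y * x := by
  obtain ⟨l₂, t₂, h'⟩ : ∃ l₂ t₂, B8 (g * z * g⁻¹) l₂ t₂ := ⟨_, _, h.map (MulAut.conj g)⟩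
  generalize g * z * g⁻¹ = y at h1 h2 h'
  have z1 := zQB h.toA0 h' h1 h2
  have z2 : z ∉ zpowers y := fun e => h.z1 (zp_inf h'.z3 h2 e (mem_zpowers z))
  have c1 := h'.card_cent z1 z2
  have c2 := h.card_bar (B := Qs y l₂ ⊓ centralizer {z} ⊓ Qs z l)
    ⟨⟨z1, mem_centralizer_singleton_iff.2 rfl⟩, zQ⟩
  have c3 := iso81 h.toA0 (B := Qs y l₂ ⊓ centralizer {z} ⊓ Qs z l) fun a ha b hb =>
    comm_E h.toA0 h'.toA0 h2 ha.2 ha.1.1 hb.2 hb.1.1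
  rw [inf_assoc, inf_idem] at c2
  rw [card_V8] at c1
  obtain ⟨l', t', k, eQ, tor, all⟩ := h.torus (T := Qs y l₂ ⊓ centralizer {z}) (fun x hx => h'.Q3 hx.1)
    (fun x hx => mem_centralizer_singleton_iff.1 hx.2)
    (fun a ha b hb => zpowers_le.2 h1 (h'.comm_zp ha.1 hb.1)) (by omega)
  rw [← eQ] at h1
  clear c1 c2 c3 eQ h
  obtain ⟨w, m, ey⟩ := k.memQ.1 h1
  obtain ⟨a, ea⟩ := tau_fix (v := w) fun c => by
    obtain ⟨x, hx, ax⟩ := all c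
    obtain ⟨n, e⟩ := k.ac_q' ax w
    have := e m
    rw [← ey, cm_cj.1 (h'.QH hx.1), ey] at this
    exact (k.q_inj this).1.symm
  obtain ⟨g₀, a₀⟩ := k.all _ _ nm_sw
  obtain ⟨n, -, e₀⟩ := k.exists_ex a₀
  generalize n * g₀ = d₀ at e₀
  obtain ⟨j, ej⟩ := k.ex_eq Ex.one (e₀.pow 2) fun _ => rfl
  have ed : Ex z l' t' (d₀ ^ 3) sw := e₀.pow 3
  have d2 : d₀ ^ 3 * d₀ ^ 3 = 1 := by
    rw [← pow_add, show 3 + 3 = 2 * 3 from rfl, pow_mul, ej, one_mul, ← pow_mul, mul_comm, pow_mul, k.z3,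
      one_pow]
  generalize d₀ ^ 3 = d at ed d2
  have dy : d * y = y * d := by rw [cm_cj, ey, ed.q, ea]; rfl
  have c1 := big k.toA0 h'.toA0 h1 h2 z1 ed d2 dy fun x a b =>
    tor x ⟨a, mem_centralizer_singleton_iff.2 b⟩
  let f : V6 →+ F3 := AddMonoidHom.mk' (fun u => b8 w (io u)) fun u v => by rw [io_add, sy8.add_r]
  have c2 := f.ker.card_mul_index
  have c3 : Nat.card f.range ≤ 3 := (AddSubgroup.card_le_card_addGroup _).trans (Nat.card_zmod 3).le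
  rw [AddSubgroup.index_ker, card_V6] at c2
  have c4 := k.card_pre (f.ker.map ioH)
  rw [AddSubgroup.card_map_of_injective ioH_inj] at c4
  set C := k.pre (f.ker.map ioH) with hC
  have Cy : ∀ x ∈ C, x * y = y * x := by
    rintro _ ⟨_, ⟨u, hu, rfl⟩, i, rfl⟩
    rw [ey, eq_comm, k.qcm]
    exact hu
  have Cd : C ≤ centralizer {d} := by
    rintro _ ⟨_, ⟨u, hu, rfl⟩, i, rfl⟩
    exact mem_centralizer_singleton_iff.2 (cm_cj.2 (ed.q _ _)).symm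
  obtain ⟨p1, p2, -⟩ := h'.sup_pg (k.pgQ.to_le (k.pre_le _) : IsPGroup 3 C) Cy
  refine ⟨l', t', d, y, k, ed, d2, h1, h2, (C ⊔ Qs y l₂) ⊓ centralizer {d}, p1.to_inf_left, ?_,
    ⟨mem_sup_right zQ, mem_centralizer_singleton_iff.2 dy.symm⟩,
    fun x hx => ⟨mem_centralizer_singleton_iff.1 hx.2, p2 x hx.1⟩⟩
  have c5 := card_mul_le (le_inf (le_sup_left (b := Qs y l₂)) Cd) (inf_le_inf_right _ le_sup_right)
  set B := C ⊓ (Qs y l₂ ⊓ centralizer {d}) with hB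
  have c6 := k.card_bar (B := B) ⟨k.q01 ▸ k.q_mem_pre.2 (zero_mem _), z1,
    mem_centralizer_singleton_iff.2 ed.cz.symm⟩
  rw [(inf_eq_left (a := B)).2 (inf_le_left.trans (k.pre_le _))] at c6
  have c7 : k.bar B ≤ ioH.range := fun v ⟨i, hv⟩ => AddSubgroup.map_le_range _ _ (k.q_mem_pre.1 hv.1)
  have c8 := sy6.iso_le (W := (k.bar B).comap ioH) fun u hu v hv => by
    rw [← b8_io]
    exact k.bar_iso (B := B) (fun a ha b hb => comm_E k.toA0 h'.toA0 h2 (k.pre_le _ ha.1) ha.2.1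
      (k.pre_le _ hb.1) hb.2.1) _ hu _ hv
  rw [← AddSubgroup.card_map_of_injective ioH_inj, AddSubgroup.map_comap_eq_self c7, card_V6] at c8
  have c9 : Nat.card (k.bar B) ≤ 27 := by nlinarith
  have c10 : 243 ≤ Nat.card f.ker := by nlinarith
  have c11 : 729 * 2187 ≤ Nat.card C * Nat.card (Qs y l₂ ⊓ centralizer {d} : Subgroup G) :=
    Nat.mul_le_mul (by omega) c1
  have c12 := Nat.mul_le_mul_left (Nat.card ((C ⊔ Qs y l₂) ⊓ centralizer {d} : Subgroup G))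
    (show Nat.card B ≤ 81 by omega)
  omega

end H7.B3
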